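import Cfsg.Agent.Lib.RuUniq.Pres

/-!
# Relators on the table, part 1
-/

set_option autoImplicit false
set_option maxRecDepth 100000

namespace CfsgLib.RuUniq

theorem relsH_fix1 : ((relsH.drop 10).take 10).all fixAll = true := by decide +kernel

end CfsgLib.RuUniq
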