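import Cfsg.Agent.Lib.RuUniq.TabFix0
import Cfsg.Agent.Lib.RuUniq.TabFix1
import Cfsg.Agent.Lib.RuUniq.TabFix2
import Cfsg.Agent.Lib.RuUniq.TabFix3

/-!
# The action of the presented stabiliser on 1755 points
-/

set_option autoImplicit false
set_option maxRecDepth 100000

namespace CfsgLib.RuUniq

open CfsgLib.PresCert

theorem tab_ok : tabPairedB = true := by decide +kernel

theorem relsH_fix {w : List ℕ} (hw : w ∈ relsH) : fixAll w = true := by
  have hlen : relsH.length ≤ 40 := by decide +kernel
  obtain ⟨i, hi, rfl⟩ := List.getElem_of_mem hw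
  have key : ∀ lo, lo ≤ i → i < lo + 10 → ((relsH.drop lo).take 10).all fixAll = true →
      fixAll relsH[i] = true := by
    intro lo h1 h2 h
    refine List.all_eq_true.1 h _ (List.mem_iff_getElem.2 ⟨i - lo, ?_, ?_⟩)
    · rw [List.length_take, List.length_drop]
      omega
    · rw [List.getElem_take, List.getElem_drop]
      congr 1
      omega
  rcases lt_or_ge i 10 with h | h
  · exact key 0 (Nat.zero_le _) (by omega) relsH_fix0
  rcases lt_or_ge i 20 with h | h
  · exact key 10 (by omega) (by omega) relsH_fix1
  rcases lt_or_ge i 30 with h | h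
  · exact key 20 (by omega) (by omega) relsH_fix2
  · exact key 30 (by omega) (by omega) relsH_fix3

theorem tab_spec {g i : ℕ} (hg : g < 5) (hi : i < 1755) :
    tab.img g i < 1755 ∧ tab.img (iv g) (tab.img g i) = i := by
  have h := tab_ok
  simp only [tabPairedB, List.all_eq_true, List.mem_range, Bool.and_eq_true, Nat.blt_eq,
    Nat.beq_eq] at h
  exact h i hi g hg

theorem iv_lt5 {g : ℕ} (h : g < 5) : iv g < 5 := by interval_cases g <;> decide

/-- The permutation of a letter. -/
noncomputable def permOf (g : ℕ) : Equiv.Perm (Fin 1755) :=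
  if hg : g < 5 then
    { toFun := fun i => ⟨tab.img g i.val, (tab_spec hg i.isLt).1⟩
      invFun := fun i => ⟨tab.img (iv g) i.val, (tab_spec (iv_lt5 hg) i.isLt).1⟩
      left_inv := fun i => Fin.ext (tab_spec hg i.isLt).2
      right_inv := fun i => Fin.ext (by
        have h := (tab_spec (iv_lt5 hg) i.isLt).2
        rw [iv_iv] at h
        exact h) }
  else 1

theorem permOf_apply {g : ℕ} (hg : g < 5) (i : Fin 1755) :
    ((permOf g i : Fin 1755) : ℕ) = tab.img g i.val := by
  simp [permOf, dif_pos hg]

theorem realised_perm : Fast.Realised permOf tab (MonoidHom.id (Equiv.Perm (Fin 1755))) :=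
  ⟨fun _ _ hg hi => (tab_spec hg hi).1, fun _ hg i => permOf_apply hg i⟩

theorem exists_act : ∃ ψ : Hp →* Equiv.Perm (Fin 1755), ∀ g, g < 5 → ψ (genH g) = permOf g := by
  refine exists_homH permOf (fun g hg => ?_) fun w hw => ?_
  · ext i
    rw [Equiv.Perm.mul_apply, permOf_apply (g := g) (by omega),
      permOf_apply (g := iv g) (iv_lt5 (by omega)), Equiv.Perm.one_apply]
    have h := (tab_spec (iv_lt5 (show g < 5 by omega)) i.isLt).2
    rw [iv_iv] at h
    exact h
  · have h := relsH_fix hw
    simp only [fixAll, List.all_eq_true, List.mem_range, Nat.beq_eq] at h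
    ext i
    have e : ((act permOf w i : Fin 1755) : ℕ) = tab.walk i.val w :=
      realised_perm.act_apply (w := w) (relsH_lt hw) i
    rw [e, Equiv.Perm.one_apply]
    exact h i.val i.isLt

/-- The action. -/
noncomputable def φ : Hp →* Equiv.Perm (Fin 1755) := exists_act.choose

theorem φ_gen {g : ℕ} (hg : g < 5) : φ (genH g) = permOf g := exists_act.choose_spec g hg

/-- The action of the presented group is given by the table. -/
theorem realised : Fast.Realised genH tab φ :=
  ⟨fun _ _ hg hi => (tab_spec hg hi).1, fun g hg i =>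
    (congrArg (fun p : Equiv.Perm (Fin 1755) => ((p i : Fin 1755) : ℕ)) (φ_gen hg)).trans
      (permOf_apply hg i)⟩

end CfsgLib.RuUniq
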