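import Cfsg.Agent.Lib.RuUniq.ClassDefs

/-!
# The scans for centralisers and fixed points, part 0
-/

set_option autoImplicit false
set_option maxRecDepth 100000

namespace CfsgLib.RuUniq

theorem cent_row0 : centRows 0 = true := by decide +kernel

theorem tri_row0 : triRows 0 = true := by decide +kernel

theorem cent_row1 : centRows 1 = true := by decide +kernel

theorem tri_row1 : triRows 1 = true := by decide +kernel

theorem cent_row2 : centRows 2 = true := by decide +kernel

theorem tri_row2 : triRows 2 = true := by decide +kernel

theorem cent_row3 : centRows 3 = true := by decide +kernel

theorem tri_row3 : triRows 3 = true := by decide +kernel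

theorem cent_row4 : centRows 4 = true := by decide +kernel

theorem tri_row4 : triRows 4 = true := by decide +kernel

end CfsgLib.RuUniq
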