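import Cfsg.Agent.Lib.RuUniq.ClassDefs

/-!
# The scans for centralisers and fixed points, part 1
-/

set_option autoImplicit false
set_option maxRecDepth 100000

namespace CfsgLib.RuUniq

theorem cent_row5 : centRows 5 = true := by decide +kernel

theorem tri_row5 : triRows 5 = true := by decide +kernel

theorem cent_row6 : centRows 6 = true := by decide +kernel

theorem tri_row6 : triRows 6 = true := by decide +kernel

theorem cent_row7 : centRows 7 = true := by decide +kernel

theorem tri_row7 : triRows 7 = true := by decide +kernel

theorem cent_row8 : centRows 8 = true := by decide +kernel

theorem tri_row8 : triRows 8 = true := by decide +kernel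

theorem cent_row9 : centRows 9 = true := by decide +kernel

theorem tri_row9 : triRows 9 = true := by decide +kernel

end CfsgLib.RuUniq
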