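import Cfsg.Agent.Lib.RuUniq.ClassDefs

/-!
# The scans for centralisers and fixed points, part 2
-/

set_option autoImplicit false
set_option maxRecDepth 100000

namespace CfsgLib.RuUniq

theorem cent_row10 : centRows 10 = true := by decide +kernel

theorem tri_row10 : triRows 10 = true := by decide +kernel

theorem cent_row11 : centRows 11 = true := by decide +kernel

theorem tri_row11 : triRows 11 = true := by decide +kernel

theorem cent_row12 : centRows 12 = true := by decide +kernel

theorem tri_row12 : triRows 12 = true := by decide +kernel

theorem cent_row13 : centRows 13 = true := by decide +kernel

theorem tri_row13 : triRows 13 = true := by decide +kernel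

theorem cent_row14 : centRows 14 = true := by decide +kernel

theorem tri_row14 : triRows 14 = true := by decide +kernel

end CfsgLib.RuUniq
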