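import Cfsg.Agent.Lib.RuUniq.ClassDefs

/-!
# The scans for centralisers and fixed points, part 3
-/

set_option autoImplicit false
set_option maxRecDepth 100000

namespace CfsgLib.RuUniq

theorem cent_row15 : centRows 15 = true := by decide +kernel

theorem tri_row15 : triRows 15 = true := by decide +kernel

theorem cent_row16 : centRows 16 = true := by decide +kernel

theorem tri_row16 : triRows 16 = true := by decide +kernel

theorem cent_row17 : centRows 17 = true := by decide +kernel

theorem tri_row17 : triRows 17 = true := by decide +kernel

theorem cent_row18 : centRows 18 = true := by decide +kernel

theorem tri_row18 : triRows 18 = true := by decide +kernel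

theorem cent_row19 : centRows 19 = true := by decide +kernel

theorem tri_row19 : triRows 19 = true := by decide +kernel

end CfsgLib.RuUniq
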