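import Cfsg.Agent.Lib.RuUniq.Pres
import Cfsg.Agent.Lib.RuUniq.CertPData
import Cfsg.Agent.Lib.RuUniq.CertHData
import Cfsg.Agent.Lib.RuUniq.CertBData

/-!
# Kernel checks of the small enumeration certificates
-/

set_option autoImplicit false
set_option maxRecDepth 100000

namespace CfsgLib.RuUniq

open CfsgLib.PresCert

theorem certP_closed : Paired.Closed certP iv [[0], [1], [2], [3]] := by
  refine ⟨⟨by decide +kernel, fun b hb => ?_⟩, by decide +kernel, fun b hb => ?_⟩
  · have h : certP.N = 2253 := rfl
    have : b < 3 := by omega
    interval_cases b <;> decide +kernel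
  · have h : certP.n = 1280 := rfl
    have : b < 2 := by omega
    interval_cases b <;> decide +kernel

theorem certH_closed : Paired.Closed certH iv [[0], [1], [2], [3], [4]] := by
  refine ⟨⟨by decide +kernel, fun b hb => ?_⟩, by decide +kernel, fun b hb => ?_⟩
  · have h : certH.N = 2390 := rfl
    have : b < 3 := by omega
    interval_cases b <;> decide +kernel
  · have h : certH.n = 1755 := rfl
    have : b < 2 := by omega
    interval_cases b <;> decide +kernel

theorem certB_closed : Paired.Closed certB iv [[0], [1], [2], [3], [4], [5]] := by
  refine ⟨⟨by decide +kernel, fun b hb => ?_⟩, by decide +kernel, fun b hb => ?_⟩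
  · have h : certB.N = 439 := rfl
    have : b = 0 := by omega
    subst this
    decide +kernel
  · have h : certB.n = 1 := rfl
    have : b = 0 := by omega
    subst this
    decide +kernel

theorem certP_words : Paired.hintsOk certP iv relsP certPHints = true ∧
    Y555.marksOk certP [[1, 2]] = true ∧ certP.n = 1280 ∧ certP.ng = 4 := by
  decide +kernel

theorem certH_words : Paired.hintsOk certH iv relsH certHHints = true ∧
    Y555.marksOk certH [[0], [2]] = true ∧ certH.n = 1755 ∧ certH.ng = 5 := by
  decide +kernel

theorem certB_words : Paired.hintsOk certB iv relsB certBHints = true ∧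
    Y555.marksOk certB [[0], [2], [4]] = true ∧ certB.n = 1 ∧ certB.ng = 6 := by
  decide +kernel

end CfsgLib.RuUniq
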