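import Cfsg.Agent.Lib.RuUniq.Pres
import Cfsg.Agent.Lib.RuUniq.CertGData

/-!
# Kernel checks of the enumeration of the group over the point stabiliser
-/

set_option autoImplicit false
set_option maxRecDepth 100000

namespace CfsgLib.RuUniq

open CfsgLib.PresCert

theorem certG_closed : Paired.Closed certG iv [[0], [1], [2], [3], [4], [5]] := by
  refine ⟨⟨by decide +kernel, fun b hb => ?_⟩, by decide +kernel, fun b hb => ?_⟩
  · have h : certG.N = 5267 := rfl
    have : b < 6 := by omega
    interval_cases b <;> decide +kernel
  · have h : certG.n = 4060 := rfl
    have : b < 5 := by omega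
    interval_cases b <;> decide +kernel

theorem certG_words : Paired.hintsOk certG iv relsG certGHints = true ∧
    Y555.marksOk certG [[0], [2], [4]] = true ∧ certG.n = 4060 ∧ certG.ng = 6 := by
  decide +kernel

end CfsgLib.RuUniq
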