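import Cfsg.Agent.Lib.RuUniq.ClassDefs

/-!
# Kernel checks for the automorphisms: the small tables
-/

set_option autoImplicit false
set_option maxRecDepth 100000

namespace CfsgLib.RuUniq

theorem conj_ok : conjOk = true := by decide +kernel

theorem root_ok : rootOk = true := by decide +kernel

theorem fix_ok : fixList.all fixOk = true := by decide +kernel

theorem cand_ok : candList.all candOk = true := by decide +kernel

theorem lw_ok : lwOk = true := by decide +kernel

theorem gam_ok : gamOk = true := by decide +kernel

theorem cube_ok : cubeOk = true := by decide +kernel

theorem square_ok : squareOk = true := by decide +kernel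

theorem cube_vals : cubeList.getD 0 [] = [] ∧ cubeList.getD 1 [] = [] ∧ cubeList.getD 2 [] = [] ∧
    lgList.all (lettersLt 4) = true ∧ lgList.length = 2 := by
  decide +kernel

end CfsgLib.RuUniq
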