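import Mathlib

/-!
# Data for the automorphisms induced by a flag (generated)
-/

set_option autoImplicit false
set_option maxRecDepth 100000

namespace CfsgLib.RuUniq

/-- For an element of order five fixing two points, the element carrying it to the chosen one. -/
def conjList : List ℕ :=
  [0, 0, 0, 2, 0, 0, 0, 13, 0, 0, 0, 0, 0, 0, 6, 0, 0, 0, 0, 0]

/-- The elements fixing the triangle. -/
def lwList : List (List ℕ) :=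
  [[],
    [1, 3],
    [2, 0],
    [1, 3, 1, 3],
    [0, 2, 1, 2, 1, 2, 2],
    [0, 2, 1, 2, 1, 3, 0],
    [1, 2, 0, 3, 0, 3, 1],
    [2, 2, 0, 3, 0, 3, 1],
    [0, 2, 1, 2, 1, 2, 2, 1, 3],
    [0, 2, 1, 2, 1, 3, 0, 2, 0],
    [1, 2, 0, 3, 0, 3, 1, 1, 3],
    [1, 2, 0, 3, 0, 3, 1, 2, 0],
    [1, 3, 0, 2, 1, 2, 1, 2, 2],
    [1, 3, 0, 2, 1, 2, 1, 3, 0],
    [1, 3, 1, 2, 0, 3, 0, 3, 1],
    [2, 0, 0, 2, 1, 2, 1, 2, 2],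
    [2, 0, 0, 2, 1, 2, 1, 3, 0],
    [2, 0, 2, 2, 0, 3, 0, 3, 1],
    [2, 2, 0, 3, 0, 3, 1, 1, 3],
    [2, 2, 0, 3, 0, 3, 1, 2, 0],
    [0, 2, 0, 2, 1, 3, 1, 3, 0, 2],
    [0, 2, 2, 1, 3, 1, 1, 2, 1, 2],
    [0, 3, 0, 3, 1, 3, 0, 0, 2, 1],
    [3, 0, 3, 0, 0, 2, 0, 2, 2, 1],
    [3, 1, 1, 3, 1, 2, 2, 1, 3, 1],
    [0, 0, 2, 0, 3, 1, 3, 0, 3, 0, 2, 2],
    [0, 0, 2, 2, 1, 2, 2, 0, 2, 2, 1, 1],
    [0, 0, 2, 2, 1, 3, 0, 2, 1, 2, 2, 1],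
    [0, 0, 3, 0, 0, 2, 0, 2, 2, 0, 0, 2],
    [0, 2, 2, 0, 0, 2, 2, 1, 3, 0, 0, 2],
    [3, 0, 0, 2, 2, 1, 3, 0, 0, 2, 1, 1],
    [3, 0, 0, 3, 0, 2, 2, 1, 2, 0, 0, 2]]

/-- Generators of the subgroup fixing the triangle. -/
def lgList : List (List ℕ) :=
  [[1, 3],
    [0, 2, 1, 2, 1, 2, 2]]

/-- The images of `x`. -/
def repX : List (List ℕ) :=
  [[0],
    [0, 2, 0, 0, 0, 3, 1],
    [0, 3, 0, 0, 0, 2, 1],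
    [1]]

/-- The images of `y`. -/
def repY : List (List ℕ) :=
  [[2],
    [0, 0, 2, 0, 3, 0, 3, 1, 2, 2, 0],
    [0, 3, 0, 3, 1, 1, 2, 2, 0, 3],
    [1, 2, 0, 3, 0, 3]]

/-- Tests on the image of `y`. -/
def testRels : List (List ℕ) :=
  [[0, 0, 0, 2, 0, 0, 2, 0, 3, 0, 0, 3, 0, 3, 0, 2]]

/-- Conjugation by `h` on the triangle stabiliser. -/
def betaList : List ℕ :=
  [0, 21, 23, 3, 18, 11, 13, 15, 10, 19, 8, 5, 14, 6, 12, 7, 17, 16, 4, 9, 24, 1, 29, 2, 20, 31,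
      26, 27, 30, 22, 28, 25]

/-- Conjugation by the rotation of the triangle, for each case. -/
def gamList : List (List ℕ) :=
  [[0, 21, 23, 3, 18, 11, 13, 15, 10, 19, 8, 5, 14, 6, 12, 7, 17, 16, 4, 9, 24, 1, 29, 2, 20, 31,
      26, 27, 30, 22, 28, 25],
    [0, 28, 30, 3, 12, 11, 13, 19, 10, 15, 6, 17, 14, 8, 18, 7, 5, 16, 4, 9, 1, 24, 29, 20, 2, 31,
      26, 27, 23, 22, 21, 25],
    [0, 17, 8, 22, 30, 11, 13, 28, 9, 21, 2, 24, 16, 20, 23, 7, 1, 14, 4, 10, 15, 19, 29, 12, 18,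
      26, 31, 27, 6, 3, 5, 25],
    [0, 15, 18, 22, 23, 7, 4, 21, 16, 28, 20, 1, 9, 2, 30, 11, 24, 10, 13, 14, 17, 5, 29, 6, 8,
      26, 31, 27, 12, 3, 19, 25]]

/-- The possible cubes of the rotation, for each case. -/
def cubeList : List (List ℕ) :=
  [[],
    [],
    [],
    [0, 27]]

/-- Candidate images. -/
def candList0 : List (ℕ × ℕ × ℕ × List ℕ × List ℕ) :=
  [(0, 12, 207, [1, 2, 0, 3, 0, 3, 1, 2, 1, 3], [1, 2, 0, 0, 2, 2, 0, 2, 1]),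
    (0, 13, 243, [3, 0, 3, 0, 0, 2, 0, 2, 2], [0, 3, 0, 0, 3, 1, 2, 0, 2]),
    (0, 17, 37, [0, 3, 0, 3, 1, 1, 2, 0, 2, 2, 1], [0, 0, 3, 1, 2, 2, 0, 3, 1]),
    (0, 19, 320, [2, 1, 3, 0, 2, 1, 3, 1, 2], [0, 0, 2, 0, 2, 1, 2, 1, 2, 0, 0]),
    (0, 11, 170, [0, 0, 2, 2, 0, 0, 2, 0, 3, 0, 2, 0], [3, 0, 3, 0, 3, 0, 0, 0, 3]),
    (0, 1, 93, [0, 0, 2, 0, 2, 1, 3, 0, 2, 1, 2, 0], [0, 0, 3, 1, 1, 3, 1, 2, 0, 2, 1]),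
    (0, 12, 126, [0, 0, 3, 1, 3, 0, 2, 2, 1, 3], [2, 1, 2, 2, 0, 2, 1]),
    (0, 16, 366, [1, 3, 0, 0, 2, 1, 1, 2, 0], [0, 2, 1, 2, 1, 3, 1, 3, 0]),
    (1, 12, 207, [1, 2, 1, 2, 0, 3, 1, 1, 2, 2], [1, 2, 1, 1, 2, 2, 0, 2, 1]),
    (1, 13, 243, [3, 0, 3, 1, 1, 2, 0, 2, 2], [0, 3, 1, 1, 3, 1, 2, 0, 2]),
    (1, 17, 37, [0, 3, 0, 3, 0, 0, 2, 0, 2, 2, 1], [1, 1, 3, 1, 2, 2, 0, 3, 1]),
    (1, 19, 320, [0, 0, 2, 0, 3, 1, 2, 0, 3, 0, 2], [0, 0, 2, 0, 2, 1, 2, 1, 2, 1, 1]),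
    (1, 11, 170, [3, 1, 2, 0, 3, 0, 2, 0, 3, 0], [3, 0, 3, 0, 3, 1, 3]),
    (1, 1, 93, [0, 2, 1, 2, 0, 3, 0, 2, 1, 1, 2, 0], [0, 0, 3, 0, 0, 3, 1, 2, 0, 2, 1]),
    (1, 12, 126, [0, 2, 2, 0, 0, 3, 1, 3, 0, 3], [2, 0, 0, 0, 2, 2, 0, 2, 1]),
    (1, 16, 366, [1, 3, 0, 0, 2, 0, 0, 2, 0], [0, 2, 1, 2, 2, 0, 2, 1, 1])]

/-- Candidate images: the exponent, the element and the images of the generators of the triangle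
stabiliser. -/
def candList : List (ℕ × ℕ × ℕ × List ℕ × List ℕ) :=
  candList0

/-- Fixed points. -/
def fixList0 : List (ℕ × ℕ × ℕ × ℕ × List ℕ × ℕ × ℕ) :=
  [(0, 1, 93, 522, [0, 0, 2, 1, 2, 0, 2, 2], 0, 0),
    (0, 1, 93, 737, [0, 0, 2, 1, 1, 2], 1, 14),
    (0, 1, 93, 1667, [0, 2, 1, 3, 0, 0, 2, 0], 0, 21),
    (0, 1, 93, 840, [1, 2, 1, 2, 0], 1, 26),
    (0, 12, 126, 1552, [0, 2, 0, 3, 1, 1], 1, 26),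
    (0, 12, 126, 439, [0, 2, 0, 3, 0, 0], 1, 26),
    (0, 12, 126, 1253, [0, 3, 1, 2, 1, 3], 0, 12),
    (0, 12, 126, 843, [3, 0, 2, 1, 2, 0, 3], 0, 26),
    (1, 13, 243, 1746, [1, 1, 2, 1, 3, 0, 3, 0], 3, 18),
    (1, 13, 243, 731, [0, 0, 2, 1, 3, 0, 3, 0], 3, 18),
    (1, 13, 243, 1733, [3, 0, 3, 1, 2, 1, 1], 2, 13),
    (1, 13, 243, 419, [3, 0, 3, 1, 2, 0, 0], 2, 13),
    (1, 16, 366, 234, [3, 1, 1, 3], 2, 8),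
    (1, 16, 366, 1424, [3, 0, 0, 3], 2, 8),
    (1, 16, 366, 212, [0, 2, 2, 1, 2, 0, 2], 3, 4),
    (1, 16, 366, 215, [0, 0, 2, 0, 2, 2, 1, 1], 3, 20)]

/-- The fixed points of a candidate, with an element reaching the point, the case and the
conjugating element. -/
def fixList : List (ℕ × ℕ × ℕ × ℕ × List ℕ × ℕ × ℕ) :=
  fixList0

end CfsgLib.RuUniq
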