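import Cfsg.Agent.Lib.RuUniq.HBound
import Cfsg.Agent.Lib.RuUniq.ClassData

/-!
# The checks on the automorphisms of the stabiliser of an edge that fix a point of a triangle
-/

set_option autoImplicit false

namespace CfsgLib.RuUniq

open CfsgLib.PresCert

/-- An element of order twenty. -/
def wA : List ℕ := [2, 1, 2]

/-- Its fourth power. -/
def wF : List ℕ := repWord 4 wA

/-- The two possible exponents. -/
def expOf (e : ℕ) : ℕ := if Nat.beq e 0 then 1 else 11

/-- The word for the image of `x` when `y` goes to `v`. -/
def xImage (e : ℕ) (v : List ℕ) : List ℕ := v ++ wInv (repWord (expOf e) wA) ++ v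

/-- The conjugate `c u c⁻¹` as a word. -/
def conjW (c u : List ℕ) : List ℕ := wInv c ++ u ++ c

/-- The word of an element with a given image of the second base point. -/
noncomputable def elQ (k q : ℕ) : List ℕ := elWord k (idxOf q)

/-- Elements of order five fixing two base points. -/
noncomputable def conjOk : Bool :=
  (List.range 20).all fun k => Nat.beq k 0 || !(same (repWord 5 (swWord k)) []) ||
    (Nat.blt (conjList.getD k 0) 20 && same (conjW (swWord (conjList.getD k 0)) (swWord k)) wF)

/-- The elements commuting with the element of order five, by the first coordinate. -/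
noncomputable def centRows (k : ℕ) : Bool :=
  (List.range 1755).all fun q => !(Nat.beq (labOf q) 4) ||
    !(Nat.beq (tab.walk 7 (elQ k q ++ wF)) (tab.walk (tab.walk 7 wF) (elQ k q))) ||
    !(same (elQ k q ++ wF) (wF ++ elQ k q)) ||
    (List.range 20).any fun i => same (elQ k q) (repWord i wA)

/-- The fourth roots of the element of order five among the powers. -/
noncomputable def rootOk : Bool :=
  (List.range 20).all fun i => !(same (repWord (4 * i) wA) wF) ||
    decide (i = 1 ∨ i = 11) || same (repWord (10 * i) wA) []

/-- The quick test on an image of `y`. -/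
noncomputable def quickAt (v : List ℕ) (p : ℕ) : Bool := Nat.beq (tab.walk p (repWord 4 v)) p

/-- A test relator at a point. -/
noncomputable def testAt (e : ℕ) (v : List ℕ) (p : ℕ) : Bool :=
  testRels.all fun r => Nat.beq (tab.walk p (subst (xImage e v) v r)) p

/-- The element is listed. -/
def listedCand (e k q : ℕ) : Bool :=
  candList.any fun c => Nat.beq c.1 e && Nat.beq c.2.1 k && Nat.beq c.2.2.1 q

/-- The least point of an orbit of the element of order five. -/
noncomputable def isRep (q : ℕ) : Bool :=
  (List.range 5).all fun i => Nat.ble q (tab.walk q (repWord i wF))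

/-- All the possible images of `y`, by the first coordinate. -/
noncomputable def scanRows (k : ℕ) : Bool :=
  (List.range 1755).all fun q => !(Nat.beq (labOf q) 4) || !(isRep q) ||
    !(quickAt (elQ k q) 7) || !(quickAt (elQ k q) 789) ||
      ([0, 1] : List ℕ).all fun e =>
        !(testAt e (elQ k q) 7) || !(testAt e (elQ k q) 789) || !(testAt e (elQ k q) 1) ||
          listedCand e k q

/-- A fixed point is listed. -/
def listedFix (e k q y : ℕ) : Bool :=
  fixList.any fun c =>
    Nat.beq c.1 e && Nat.beq c.2.1 k && Nat.beq c.2.2.1 q && Nat.beq c.2.2.2.1 y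

/-- The images of the generators of the triangle stabiliser and their fixed points. -/
noncomputable def candOk (c : ℕ × ℕ × ℕ × List ℕ × List ℕ) : Bool :=
  let v := elQ c.2.1 c.2.2.1
  let u := xImage c.1 v
  same c.2.2.2.1 (subst u v (lgList.getD 0 [])) && same c.2.2.2.2 (subst u v (lgList.getD 1 [])) &&
    (List.range 1755).all fun y => !(Nat.beq (labOf y) 3) ||
      !(Nat.beq (tab.walk y c.2.2.2.1) y) || !(Nat.beq (tab.walk y c.2.2.2.2) y) ||
      listedFix c.1 c.2.1 c.2.2.1 y

/-- An element of the triangle stabiliser. -/
def lwWord (l : ℕ) : List ℕ := lwList.getD l []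

/-- The image of `x` in a case. -/
def repXW (r : ℕ) : List ℕ := repX.getD r []

/-- The image of `y` in a case. -/
def repYW (r : ℕ) : List ℕ := repY.getD r []

/-- A listed fixed point leads to a case. -/
noncomputable def fixOk (c : ℕ × ℕ × ℕ × ℕ × List ℕ × ℕ × ℕ) : Bool :=
  let v := elQ c.2.1 c.2.2.1
  let u := xImage c.1 v
  let qw := c.2.2.2.2.1
  let r := c.2.2.2.2.2.1
  let l := c.2.2.2.2.2.2
  Nat.blt r 4 && Nat.blt l 32 && lettersLt 4 qw && Nat.beq (tab.walk 789 qw) c.2.2.2.1 &&
    same (qw ++ u ++ wInv qw) (conjW (lwWord l) (repXW r)) &&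
    same (qw ++ v ++ wInv qw) (conjW (lwWord l) (repYW r))

/-- The elements fixing the triangle are listed, by the first coordinate. -/
noncomputable def triRows (k : ℕ) : Bool :=
  (List.range 1755).all fun q => !(Nat.beq (labOf q) 4) ||
    !(Nat.beq (tab.walk 789 (elQ k q)) 789) ||
      (List.range 32).any fun l => same (elQ k q) (lwWord l)

/-- The table of the triangle stabiliser. -/
noncomputable def lwOk : Bool :=
  (List.range 32).all fun l => lettersLt 4 (lwWord l) && Nat.beq (tab.walk 0 (lwWord l)) 0 &&
    Nat.beq (tab.walk 789 (lwWord l)) 789 && Nat.blt (betaList.getD l 32) 32 &&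
    same ([4] ++ lwWord l ++ [4]) (lwWord (betaList.getD l 0))

/-- The image of an element under the rotation in a case. -/
def gamAt (r l : ℕ) : ℕ := (gamList.getD r []).getD l 0

/-- The tables of the rotation. -/
noncomputable def gamOk : Bool :=
  (List.range 4).all fun r => (List.range 32).all fun l =>
    Nat.blt (gamAt r l) 32 &&
      same (subst (repXW r) (repYW r) (lwWord (betaList.getD l 0))) (lwWord (gamAt r l))

/-- The possible cubes of the rotation. -/
noncomputable def cubeOk : Bool :=
  (List.range 4).all fun r => (List.range 32).all fun l =>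
    !(same (lwWord (gamAt r l)) (lwWord l)) ||
      !((List.range 32).all fun j =>
        same (conjW (lwWord l) (lwWord j)) (lwWord (gamAt r (gamAt r (gamAt r j))))) ||
      (cubeList.getD r []).contains l

/-- The square of the flag in the last case. -/
noncomputable def squareOk : Bool :=
  (List.range 32).all fun l =>
    !(same (conjW (lwWord l) [0]) (subst (repXW 3) (repYW 3) (repXW 3))) ||
      !(same (conjW (lwWord l) [2]) (subst (repXW 3) (repYW 3) (repYW 3))) ||
      same (lwWord l) []

end CfsgLib.RuUniq
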