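import Cfsg.Agent.Lib.RuUniq.ClassDefs

/-!
# The scan of the images of a generator, part 0
-/

set_option autoImplicit false
set_option maxRecDepth 100000

namespace CfsgLib.RuUniq

theorem scan_row0 : scanRows 0 = true := by decide +kernel

theorem scan_row1 : scanRows 1 = true := by decide +kernel

theorem scan_row2 : scanRows 2 = true := by decide +kernel

theorem scan_row3 : scanRows 3 = true := by decide +kernel

theorem scan_row4 : scanRows 4 = true := by decide +kernel

end CfsgLib.RuUniq
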