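import Cfsg.Agent.Lib.RuUniq.ClassDefs

/-!
# The scan of the images of a generator, part 1
-/

set_option autoImplicit false
set_option maxRecDepth 100000

namespace CfsgLib.RuUniq

theorem scan_row5 : scanRows 5 = true := by decide +kernel

theorem scan_row6 : scanRows 6 = true := by decide +kernel

theorem scan_row7 : scanRows 7 = true := by decide +kernel

theorem scan_row8 : scanRows 8 = true := by decide +kernel

theorem scan_row9 : scanRows 9 = true := by decide +kernel

end CfsgLib.RuUniq
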