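import Cfsg.Agent.Lib.RuUniq.ClassDefs

/-!
# The scan of the images of a generator, part 2
-/

set_option autoImplicit false
set_option maxRecDepth 100000

namespace CfsgLib.RuUniq

theorem scan_row10 : scanRows 10 = true := by decide +kernel

theorem scan_row11 : scanRows 11 = true := by decide +kernel

theorem scan_row12 : scanRows 12 = true := by decide +kernel

theorem scan_row13 : scanRows 13 = true := by decide +kernel

theorem scan_row14 : scanRows 14 = true := by decide +kernel

end CfsgLib.RuUniq
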