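import Cfsg.Agent.Lib.RuUniq.ClassDefs

/-!
# The scan of the images of a generator, part 3
-/

set_option autoImplicit false
set_option maxRecDepth 100000

namespace CfsgLib.RuUniq

theorem scan_row15 : scanRows 15 = true := by decide +kernel

theorem scan_row16 : scanRows 16 = true := by decide +kernel

theorem scan_row17 : scanRows 17 = true := by decide +kernel

theorem scan_row18 : scanRows 18 = true := by decide +kernel

theorem scan_row19 : scanRows 19 = true := by decide +kernel

end CfsgLib.RuUniq
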