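import Cfsg.Agent.Lib.RuUniq.ClassCheck
import Cfsg.Agent.Lib.RuUniq.ScanCheck0
import Cfsg.Agent.Lib.RuUniq.ScanCheck1
import Cfsg.Agent.Lib.RuUniq.ScanCheck2
import Cfsg.Agent.Lib.RuUniq.ScanCheck3
import Cfsg.Agent.Lib.RuUniq.CentCheck0
import Cfsg.Agent.Lib.RuUniq.CentCheck1
import Cfsg.Agent.Lib.RuUniq.CentCheck2
import Cfsg.Agent.Lib.RuUniq.CentCheck3
import Mathlib.GroupTheory.Perm.Cycle.Type

/-!
# The automorphisms of the stabiliser of an edge fixing a point of a triangle
-/

set_option autoImplicit false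
set_option maxRecDepth 100000

namespace CfsgLib.RuUniq

open CfsgLib.PresCert

theorem scan_row_all {k : ℕ} (hk : k < 20) : scanRows k = true := by
  interval_cases k
  exacts [scan_row0, scan_row1, scan_row2, scan_row3, scan_row4, scan_row5
    , scan_row6, scan_row7, scan_row8, scan_row9, scan_row10, scan_row11
    , scan_row12, scan_row13, scan_row14, scan_row15, scan_row16, scan_row17
    , scan_row18, scan_row19]

theorem cent_row_all {k : ℕ} (hk : k < 20) : centRows k = true := by
  interval_cases k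
  exacts [cent_row0, cent_row1, cent_row2, cent_row3, cent_row4, cent_row5
    , cent_row6, cent_row7, cent_row8, cent_row9, cent_row10, cent_row11
    , cent_row12, cent_row13, cent_row14, cent_row15, cent_row16, cent_row17
    , cent_row18, cent_row19]

theorem tri_row_all {k : ℕ} (hk : k < 20) : triRows k = true := by
  interval_cases k
  exacts [tri_row0, tri_row1, tri_row2, tri_row3, tri_row4, tri_row5
    , tri_row6, tri_row7, tri_row8, tri_row9, tri_row10, tri_row11
    , tri_row12, tri_row13, tri_row14, tri_row15, tri_row16, tri_row17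
    , tri_row18, tri_row19]

theorem elWord_eq {m : Hp} (hm : m ∈ subP) : ∃ q k, q < 1755 ∧ labOf q = 4 ∧ k < 20 ∧
    m = act genH (elQ k q) ∧ (φ m (pt 7)).val = q := by
  obtain ⟨q, k, h1, h2, h3, h4, h5, -⟩ := elements m (subP_fix hm)
  exact ⟨q, k, h1, h2, h3, h4, h5⟩

theorem elQ_lt {k q : ℕ} (hk : k < 20) (hq : q < 1755) (hl : labOf q = 4) :
    ∀ g ∈ elQ k q, g < 4 := by
  intro g hg
  rcases List.mem_append.1 hg with h | h
  exacts [(sw_spec hk).1 g h, (tw_spec hq hl).2.1 g h]

theorem genH_inv4 : ∀ g, g < 4 → genH g * genH (iv g) = 1 := fun g hg => genH_inv g (by omega)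

theorem conjW_act {c u : List ℕ} (hc : ∀ g ∈ c, g < 4) :
    act genH (conjW c u) = act genH c * act genH u * (act genH c)⁻¹ := by
  rw [conjW, act_append, act_append, act_inv genH_inv4 hc, mul_assoc]

theorem lt_wA : ∀ g ∈ wA, g < 4 := by decide

theorem act_wA : act genH wA = genH 2 * (genH 0)⁻¹ * genH 2 := by
  rw [wA, act_cons, act_cons, act_one_letter, show genH 1 = (genH 0)⁻¹ by simp [genH, freeH]]

theorem gen0_eq : genH 0 = genH 2 * (act genH wA)⁻¹ * genH 2 := by
  rw [act_wA]; group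

/-- Three points determine an element. -/
theorem same_of_eq {u v : List ℕ} (h : act genH u = act genH v) (hu : ∀ g ∈ u, g < 5)
    (hv : ∀ g ∈ v, g < 5) : same u v = true := by
  simp only [same, Bool.and_eq_true, List.all_cons, List.all_nil, Bool.and_true, Nat.beq_eq,
    lettersLt, List.all_eq_true, Nat.blt_eq]
  refine ⟨⟨hu, hv⟩, ?_, ?_, ?_⟩
  · have := congrArg (fun m => (φ m (pt 0)).val) h
    simpa [walk_apply hu, walk_apply hv, pt] using this
  · have := congrArg (fun m => (φ m (pt 7)).val) h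
    simpa [walk_apply hu, walk_apply hv, pt] using this
  · have := congrArg (fun m => (φ m (pt 1)).val) h
    simpa [walk_apply hu, walk_apply hv, pt] using this

theorem lt_append {n : ℕ} {u v : List ℕ} (hu : ∀ g ∈ u, g < n) (hv : ∀ g ∈ v, g < n) :
    ∀ g ∈ u ++ v, g < n := fun g hg => (List.mem_append.1 hg).elim (hu g) (hv g)

theorem lt_repWord {n : ℕ} {u : List ℕ} (hu : ∀ g ∈ u, g < n) : ∀ i, ∀ g ∈ repWord i u, g < n
  | 0, g, hg => absurd hg (by simp [repWord])
  | i + 1, g, hg => by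
    rw [repWord] at hg
    rcases List.mem_append.1 hg with h | h
    · exact hu g h
    · exact lt_repWord hu i g h

theorem lt_five {u : List ℕ} (hu : ∀ g ∈ u, g < 4) : ∀ g ∈ u, g < 5 :=
  fun g hg => lt_trans (hu g hg) (by norm_num)

theorem lt_wF : ∀ g ∈ wF, g < 4 := lt_repWord lt_wA 4

theorem act_wF : act genH wF = act genH wA ^ 4 := act_repWord _ _ _

theorem wF_facts : same (repWord 5 wF) [] = true ∧ same wF [] = false ∧
    same (repWord 10 wA) [] = false ∧ same wA (repWord 1 wA) = true ∧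
    Nat.beq (tab.walk 7 wF) 7 = true := by
  decide +kernel

theorem F_facts : act genH wF ^ 5 = 1 ∧ act genH wF ≠ 1 ∧ act genH wA ^ 10 ≠ 1 := by
  obtain ⟨h1, h2, h3, -⟩ := wF_facts
  refine ⟨?_, fun h => ?_, fun h => ?_⟩
  · rw [← act_repWord, same_eq h1, act_nil]
  · rw [same_of_eq (v := []) (by rw [h, act_nil]) (lt_five lt_wF) (by simp)] at h2
    exact Bool.noConfusion h2
  · rw [← act_repWord] at h
    rw [same_of_eq (v := []) (by rw [h, act_nil]) (lt_five (lt_repWord lt_wA 10)) (by simp)] at h3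
    exact Bool.noConfusion h3

/-- An element of order five is conjugate to the chosen one. -/
theorem conj_to_F {p : Hp} (hp : p ∈ subP) (h5 : p ^ 5 = 1) (hne : p ≠ 1) :
    ∃ Q ∈ subP, Q * p * Q⁻¹ = act genH wF := by
  classical
  let X := {q : Fin 1755 // labOf q.val = 4}
  let σ : Equiv.Perm X := (φ p).subtypePerm fun q => by
    rw [show labOf (φ p q).val = labOf q.val from orbForest_ok.invariant realised hp q]
  have hσ : σ ^ 5 ^ 1 = 1 := by
    rw [pow_one]
    have h : (φ p) ^ 5 = 1 := by rw [← map_pow, h5, map_one]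
    refine Equiv.ext fun q => Subtype.ext ?_
    rw [Equiv.Perm.subtypePerm_pow, Equiv.Perm.subtypePerm_apply]
    simp [h]
  haveI : Fact (Nat.Prime 5) := ⟨by norm_num⟩
  have hcard : Fintype.card X = 1024 := by
    rw [Fintype.card_subtype, ← lab_counts.2.2.2.2, labCount,
      ← List.toFinset_card_of_nodup (List.nodup_range.filter _)]
    refine Finset.card_bij (fun q _ => q.val) (fun q hq => ?_) (fun x _ y _ h => Fin.ext h)
      fun v hv => ?_
    · simp only [List.mem_toFinset, List.mem_filter, List.mem_range, Nat.beq_eq]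
      exact ⟨q.isLt, (Finset.mem_filter.1 hq).2⟩
    · simp only [List.mem_toFinset, List.mem_filter, List.mem_range, Nat.beq_eq] at hv
      exact ⟨⟨v, hv.1⟩, Finset.mem_filter.2 ⟨Finset.mem_univ _, hv.2⟩, rfl⟩
  obtain ⟨⟨q, hl⟩, hfix⟩ := Equiv.Perm.exists_fixed_point_of_prime (p := 5) (n := 1)
    (by rw [hcard]; decide) hσ
  have hpq : φ p q = q := congrArg Subtype.val hfix
  obtain ⟨-, w1, w2, w3⟩ := tw_spec q.isLt hl
  obtain ⟨t, ht⟩ : ∃ t, t = act genH (twWord (idxOf q.val)) := ⟨_, rfl⟩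
  have htP : t ∈ subP := ht ▸ act_mem_subP w1
  have ht7 : φ t (pt 7) = q := Fin.ext (by rw [ht, walk_apply (lt_five w1)]; exact w2)
  have hp7 : (φ (t⁻¹ * p * t) (pt 7)).val = 7 := by
    rw [map_mul, map_mul, Equiv.Perm.mul_apply, Equiv.Perm.mul_apply, ht7, hpq, map_inv,
      Equiv.Perm.inv_def, (Equiv.symm_apply_eq _).2 ht7.symm]
    rfl
  obtain ⟨q', k, hq', hl', hk, e, e7⟩ := elWord_eq (mul_mem (mul_mem (inv_mem htP) hp) htP)
  rw [hp7] at e7
  obtain rfl : q' = 7 := e7.symm
  rw [elQ, elWord, lev2_nodup.2.2.2.2.1, lev2_nodup.2.2.2.2.2, List.append_nil] at e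
  have hs := conj_ok
  simp only [conjOk, List.all_eq_true, List.mem_range, Bool.or_eq_true, Bool.not_eq_true',
    Bool.and_eq_true, Nat.beq_eq, Nat.blt_eq] at hs
  rcases hs k hk with (h | h) | ⟨hc, h⟩
  · exfalso
    rw [h, lev2_nodup.2.2.2.1, act_nil, mul_assoc, inv_mul_eq_one] at e
    exact hne (mul_right_cancel (b := t) ((one_mul t).symm ▸ e.symm))
  · exfalso
    rw [same_of_eq (u := repWord 5 (swWord k)) (v := []) (by
      rw [act_repWord, act_nil, ← e, show t⁻¹ * p * t = MulAut.conj t⁻¹ p by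
        rw [MulAut.conj_apply, inv_inv], ← map_pow, h5, map_one])
      (lt_five (lt_repWord (sw_spec hk).1 5)) (by simp)] at h
    exact Bool.noConfusion h
  · refine ⟨act genH (swWord (conjList.getD k 0)) * t⁻¹,
      mul_mem (act_mem_subP (sw_spec hc).1) (inv_mem htP), ?_⟩
    have h' := same_eq h
    rw [conjW_act (sw_spec hc).1, ← e] at h'
    rw [← h', mul_inv_rev, inv_inv]
    simp only [mul_assoc]

/-- The image of `x` as a word. -/
theorem act_xImage {e : ℕ} {v : List ℕ} : act genH (xImage e v) =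
    act genH v * (act genH wA ^ expOf e)⁻¹ * act genH v := by
  rw [xImage, act_append, act_append, act_inv genH_inv4 (lt_repWord lt_wA _), act_repWord,
    mul_assoc]

theorem lt_xImage {e : ℕ} {v : List ℕ} (hv : ∀ g ∈ v, g < 4) : ∀ g ∈ xImage e v, g < 4 :=
  lt_append (lt_append hv (wInv_lt (fun _ h => iv_lt4 h) (lt_repWord lt_wA _))) hv

theorem lt_subst {n : ℕ} (hn : ∀ g, g < n → iv g < n) {u v : List ℕ} (hu : ∀ g ∈ u, g < n)
    (hv : ∀ g ∈ v, g < n) (w : List ℕ) : ∀ g ∈ subst u v w, g < n := by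
  intro g hg
  rw [subst, expand, List.mem_flatMap] at hg
  obtain ⟨a, -, ha⟩ := hg
  rcases a with _ | _ | _ | _ | a
  · exact hu g ha
  · exact wInv_lt hn hu g ha
  · exact hv g ha
  · exact wInv_lt hn hv g ha
  · simp at ha

/-- A homomorphism on the subgroup is a substitution. -/
theorem hom_subst (α : subP →* Hp) {u v : List ℕ} (hu : ∀ g ∈ u, g < 4) (hv : ∀ g ∈ v, g < 4)
    (h0 : α ⟨genH 0, genH_mem_subP (by norm_num)⟩ = act genH u)
    (h2 : α ⟨genH 2, genH_mem_subP (by norm_num)⟩ = act genH v) :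
    ∀ {w : List ℕ} (hw : ∀ g ∈ w, g < 4),
      α ⟨act genH w, act_mem_subP hw⟩ = act genH (subst u v w)
  | [], _ => by
    show α 1 = 1
    exact map_one α
  | g :: w, hw => by
    have hw' : ∀ a ∈ w, a < 4 := fun a ha => hw a (List.mem_cons_of_mem _ ha)
    have hg := hw g List.mem_cons_self
    have key : α ⟨genH g, genH_mem_subP hg⟩ = act genH ([u, wInv u, v, wInv v].getD g []) := by
      interval_cases g
      · exact h0
      · rw [show (⟨genH 1, genH_mem_subP hg⟩ : subP) =
            (⟨genH 0, genH_mem_subP (by norm_num)⟩ : subP)⁻¹ from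
          Subtype.ext (by simp [genH, freeH]), map_inv, h0]
        exact (act_inv genH_inv4 hu).symm
      · exact h2
      · rw [show (⟨genH 3, genH_mem_subP hg⟩ : subP) =
            (⟨genH 2, genH_mem_subP (by norm_num)⟩ : subP)⁻¹ from
          Subtype.ext (by simp [genH, freeH]), map_inv, h2]
        exact (act_inv genH_inv4 hv).symm
    rw [show (⟨act genH (g :: w), act_mem_subP hw⟩ : subP) =
      ⟨act genH w, act_mem_subP hw'⟩ * ⟨genH g, genH_mem_subP hg⟩ from rfl, map_mul, key,
      hom_subst α hu hv h0 h2 hw', subst, expand, subst, expand, List.flatMap_cons, act_append]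

theorem fix_apply {w : List ℕ} (hw : ∀ g ∈ w, g < 5) {i : ℕ} (hi : i < 1755) :
    tab.walk i w = i ↔ φ (act genH w) ⟨i, hi⟩ = ⟨i, hi⟩ := by
  rw [Fin.ext_iff, walk_apply hw]

/-- The possible automorphisms, up to conjugation by an element fixing the triangle. -/
theorem classify (α : subP →* Hp) (hinj : Function.Injective α) (hP : ∀ m, α m ∈ subP)
    (hL : ∀ m : subP, φ m.1 (pt 789) = pt 789 → φ (α m) (pt 789) = pt 789) :
    ∃ l ∈ subP, φ l (pt 789) = pt 789 ∧ ∃ r < 4,
      α ⟨genH 0, genH_mem_subP (by norm_num)⟩ = l * act genH (repXW r) * l⁻¹ ∧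
      α ⟨genH 2, genH_mem_subP (by norm_num)⟩ = l * act genH (repYW r) * l⁻¹ := by
  classical
  obtain ⟨F, hF⟩ : ∃ F : subP, F = ⟨act genH wF, act_mem_subP lt_wF⟩ := ⟨_, rfl⟩
  obtain ⟨A, hA⟩ : ∃ A : subP, A = ⟨act genH wA, act_mem_subP lt_wA⟩ := ⟨_, rfl⟩
  obtain ⟨f5, f1, a10⟩ := F_facts
  have hFA : F = A ^ 4 := Subtype.ext (by rw [hF, hA]; exact act_wF)
  have hF5 : F ^ 5 = 1 := Subtype.ext (by rw [hF]; exact f5)
  obtain ⟨Q0, hQ0, hQF⟩ := conj_to_F (hP F) (by rw [← map_pow, hF5, map_one]) fun h => f1 (by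
    have h' := congrArg Subtype.val (hinj (h.trans α.map_one.symm))
    rwa [hF] at h')
  -- choose the conjugating element so that the image of `y` moves the base point to a least one
  obtain ⟨i, -, hmin⟩ := Finset.exists_min_image (Finset.range 5)
    (fun i => (φ ((act genH wF) ^ i * (Q0 * α ⟨genH 2, genH_mem_subP (by norm_num)⟩ * Q0⁻¹))
      (pt 7)).val) ⟨0, by simp⟩
  obtain ⟨Q, hQdef⟩ : ∃ Q, Q = act genH wF ^ i * Q0 := ⟨_, rfl⟩
  have hQ : Q ∈ subP := hQdef ▸ mul_mem (pow_mem (act_mem_subP lt_wF) i) hQ0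
  have hQFF : Q * α F * Q⁻¹ = act genH wF := by
    rw [hQdef, show act genH wF ^ i * Q0 * α F * (act genH wF ^ i * Q0)⁻¹ =
      act genH wF ^ i * (Q0 * α F * Q0⁻¹) * (act genH wF ^ i)⁻¹ by group, hQF, ← pow_succ,
      pow_succ', mul_inv_cancel_right]
  let β : subP →* Hp := (MulAut.conj Q).toMonoidHom.comp α
  have hβ : ∀ m, β m = Q * α m * Q⁻¹ := fun _ => rfl
  have hβP : ∀ m, β m ∈ subP := fun m => mul_mem (mul_mem hQ (hP m)) (inv_mem hQ)
  have hβinj : Function.Injective β := fun m n h => hinj ((MulAut.conj Q).injective h)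
  -- the image of the element of order twenty
  obtain ⟨qa, ka, hqa, hla, hka, ea, ea7⟩ := elWord_eq (hβP A)
  have hc4 : β A ^ 4 = act genH wF := by rw [← map_pow, ← hFA, hβ, hQFF]
  have hcomm : act genH (elQ ka qa ++ wF) = act genH (wF ++ elQ ka qa) := by
    rw [act_append, act_append, ← ea, ← hc4, ← pow_succ, pow_succ']
  have hel := elQ_lt hka hqa hla
  have hcent := cent_row_all hka
  simp only [centRows, List.all_eq_true, List.mem_range, Bool.or_eq_true, Bool.not_eq_true',
    List.any_eq_true] at hcent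
  obtain ⟨ia, hia, hsa⟩ : ∃ i < 20, same (elQ ka qa) (repWord i wA) = true := by
    rcases hcent qa hqa with ((h | h) | h) | ⟨i, hi, h⟩
    · rw [show Nat.beq (labOf qa) 4 = true from Nat.beq_eq.mpr hla] at h
      exact Bool.noConfusion h
    · exfalso
      have : tab.walk 7 (elQ ka qa ++ wF) = tab.walk (tab.walk 7 wF) (elQ ka qa) := by
        have h7 := congrArg (fun m => (φ m (pt 7)).val) hcomm
        simp only [walk_apply (lt_five (lt_append hel lt_wF))] at h7
        rw [act_append, map_mul, Equiv.Perm.mul_apply, walk_apply (lt_five hel),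
          walk_apply (lt_five lt_wF)] at h7
        exact h7
      rw [show Nat.beq _ _ = true from Nat.beq_eq.mpr this] at h
      exact Bool.noConfusion h
    · rw [same_of_eq hcomm (lt_five (lt_append hel lt_wF)) (lt_five (lt_append lt_wF hel))] at h
      exact Bool.noConfusion h
    · exact ⟨i, hi, h⟩
  have eA : β A = act genH wA ^ ia := by rw [ea, same_eq hsa, act_repWord]
  obtain ⟨e, he, eAe⟩ : ∃ e, e ∈ ([0, 1] : List ℕ) ∧ β A = act genH wA ^ expOf e := by
    have hr := root_ok
    simp only [rootOk, List.all_eq_true, List.mem_range, Bool.or_eq_true, Bool.not_eq_true',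
      decide_eq_true_eq] at hr
    rcases hr ia hia with (h | h | h) | h
    · rw [same_of_eq (by rw [act_repWord, mul_comm, pow_mul, ← eA, hc4])
        (lt_five (lt_repWord lt_wA _)) (lt_five lt_wF)] at h
      exact Bool.noConfusion h
    · exact ⟨0, by simp, by rw [eA, h]; rfl⟩
    · exact ⟨1, by simp, by rw [eA, h]; rfl⟩
    · exfalso
      have h1 : β A ^ 10 = 1 := by
        rw [eA, ← pow_mul, mul_comm, ← act_repWord, same_eq h, act_nil]
      refine a10 ?_
      have := congrArg Subtype.val (hβinj ((map_pow β A 10).trans (h1.trans β.map_one.symm)))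
      rw [hA] at this
      exact this
  -- the image of y
  obtain ⟨qv, kv, hqv, hlv, hkv, ev, ev7⟩ := elWord_eq (hβP ⟨genH 2, genH_mem_subP (by norm_num)⟩)
  obtain ⟨v, hvdef⟩ : ∃ v, v = elQ kv qv := ⟨_, rfl⟩
  have hv : ∀ g ∈ v, g < 4 := hvdef ▸ elQ_lt hkv hqv hlv
  obtain ⟨u, hudef⟩ : ∃ u, u = xImage e v := ⟨_, rfl⟩
  have hu : ∀ g ∈ u, g < 4 := hudef ▸ lt_xImage hv
  have hy : β ⟨genH 2, genH_mem_subP (by norm_num)⟩ = act genH v := hvdef ▸ ev
  have hx : β ⟨genH 0, genH_mem_subP (by norm_num)⟩ = act genH u := by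
    rw [hudef, act_xImage, ← hy, ← eAe, ← map_inv, ← map_mul, ← map_mul]
    congr 1
    exact Subtype.ext (by rw [hA]; exact gen0_eq)
  have hhom := fun (w : List ℕ) (hw : ∀ g ∈ w, g < 4) => hom_subst β hu hv hx hy hw
  have hrep : isRep qv = true := by
    simp only [isRep, List.all_eq_true, List.mem_range, Nat.ble_eq]
    intro j hj
    have hFQ : ∀ n : ℕ, φ (act genH wF ^ n) (pt 7) = pt 7 := by
      intro n
      induction n with
      | zero => simp
      | succ n ih =>
        rw [pow_succ, map_mul, Equiv.Perm.mul_apply,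
          show φ (act genH wF) (pt 7) = pt 7 from
            Fin.ext ((walk_apply (lt_five lt_wF) _).trans (Nat.eq_of_beq_eq_true wF_facts.2.2.2.2)),
          ih]
    have hbase : ∀ n, (φ ((act genH wF) ^ n * (Q0 * α ⟨genH 2, genH_mem_subP (by norm_num)⟩ *
        Q0⁻¹)) (pt 7)).val = (φ (act genH wF ^ n * (act genH wF ^ i)⁻¹ *
          β ⟨genH 2, genH_mem_subP (by norm_num)⟩) (pt 7)).val := fun n => by
      rw [hβ, hQdef, show act genH wF ^ n * (act genH wF ^ i)⁻¹ *
        (act genH wF ^ i * Q0 * α ⟨genH 2, genH_mem_subP (by norm_num)⟩ *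
          (act genH wF ^ i * Q0)⁻¹) = act genH wF ^ n * (Q0 * α ⟨genH 2, genH_mem_subP
            (by norm_num)⟩ * Q0⁻¹) * (act genH wF ^ i)⁻¹ by group, map_mul _ _ (_⁻¹),
        Equiv.Perm.mul_apply, map_inv, Equiv.Perm.inv_def,
        (Equiv.symm_apply_eq _).2 (hFQ i).symm]
    have hi5 : act genH wF ^ ((i + j) % 5) = act genH wF ^ (i + j) := by
      conv_rhs => rw [← Nat.mod_add_div (i + j) 5, pow_add, pow_mul, f5, one_pow, mul_one]
    have := hmin ((i + j) % 5) (Finset.mem_range.2 (Nat.mod_lt _ (by norm_num)))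
    rw [hbase, hbase, mul_inv_cancel, one_mul, ev7, hi5, pow_add,
      show act genH wF ^ i * act genH wF ^ j * (act genH wF ^ i)⁻¹ = act genH wF ^ j by
        rw [← pow_add, add_comm, pow_add, mul_inv_cancel_right],
      map_mul, Equiv.Perm.mul_apply, ← act_repWord,
      walk_apply (lt_five (lt_repWord lt_wF j)), ev7] at this
    exact this
  have hcand : ∃ c ∈ candList, c.1 = e ∧ c.2.1 = kv ∧ c.2.2.1 = qv := by
    have hs := scan_row_all hkv
    simp only [scanRows, List.all_eq_true, List.mem_range, Bool.or_eq_true, Bool.not_eq_true',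
      listedCand, List.any_eq_true, Bool.and_eq_true, Nat.beq_eq] at hs
    have hq4 : ∀ p, p < 1755 → quickAt (elQ kv qv) p = true := by
      intro p hp
      rw [quickAt, Nat.beq_eq, fix_apply (lt_five (lt_repWord (elQ_lt hkv hqv hlv) 4)) hp,
        act_repWord, ← hvdef, ← hy, ← map_pow,
        show (⟨genH 2, genH_mem_subP (by norm_num)⟩ : subP) ^ 4 = 1 from Subtype.ext (by
          show genH 2 ^ 4 = 1
          rw [← act_one_letter (gen := genH) 2, ← act_repWord]
          exact relsH_act (by decide +kernel)), map_one, map_one]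
      rfl
    have ht : ∀ p, p < 1755 → testAt e (elQ kv qv) p = true := by
      intro p hp
      rw [testAt, List.all_eq_true]
      intro r hr
      have hrs : r ∈ relsH ∧ lettersLt 4 r = true := by
        have h : testRels.all (fun r => relsH.contains r && lettersLt 4 r) = true := by
          decide +kernel
        have h' := List.all_eq_true.1 h r hr
        simp only [Bool.and_eq_true, List.contains_iff_mem] at h'
        exact h'
      have hr4 := lettersLt_spec hrs.2
      rw [← hvdef, ← hudef, Nat.beq_eq,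
        fix_apply (lt_five (lt_subst (fun _ h => iv_lt4 h) hu hv r)) hp, ← hhom r hr4,
        show (⟨act genH r, act_mem_subP hr4⟩ : subP) = 1 from Subtype.ext (relsH_act hrs.1),
        map_one, map_one]
      rfl
    rcases hs qv hqv with (((h | h) | h) | h) | h
    · rw [show Nat.beq (labOf qv) 4 = true from Nat.beq_eq.mpr hlv] at h
      exact Bool.noConfusion h
    · rw [hrep] at h; exact Bool.noConfusion h
    · rw [hq4 7 (by norm_num)] at h; exact Bool.noConfusion h
    · rw [hq4 789 (by norm_num)] at h; exact Bool.noConfusion h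
    · rcases h e he with ((h | h) | h) | ⟨c, hc, ⟨h1, h2⟩, h3⟩
      · rw [ht 7 (by norm_num)] at h; exact Bool.noConfusion h
      · rw [ht 789 (by norm_num)] at h; exact Bool.noConfusion h
      · rw [ht 1 (by norm_num)] at h; exact Bool.noConfusion h
      · exact ⟨c, hc, h1, h2, h3⟩
  obtain ⟨c, hc, hc1, hc2, hc3⟩ := hcand
  -- the point fixed by the image of the triangle stabiliser
  obtain ⟨y, hydef⟩ : ∃ y, y = φ Q (pt 789) := ⟨_, rfl⟩
  have hlaby : labOf y.val = 3 := by
    rw [hydef]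
    exact (orbForest_ok.invariant realised hQ _).trans lab_special.2.2
  have hcok := List.all_eq_true.1 cand_ok c hc
  simp only [candOk, hc1, hc2, hc3, ← hvdef, ← hudef, Bool.and_eq_true, List.all_eq_true,
    List.mem_range, Bool.or_eq_true, Bool.not_eq_true', listedFix, List.any_eq_true,
    Nat.beq_eq] at hcok
  obtain ⟨⟨hm1, hm2⟩, hfx⟩ := hcok
  have hfixy : ∀ j, j < 2 → ∀ w, same w (subst u v (lgList.getD j [])) = true →
      Nat.beq (tab.walk y.val w) y.val = true := by
    intro j hj w hw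
    have hj' : j < lgList.length := by rw [cube_vals.2.2.2.2]; exact hj
    have hlg : ∀ g ∈ lgList.getD j [], g < 4 := by
      rw [List.getD_eq_getElem _ _ hj']
      exact lettersLt_spec (List.all_eq_true.1 cube_vals.2.2.2.1 _ (List.getElem_mem hj'))
    have hl789 : φ (act genH (lgList.getD j [])) (pt 789) = pt 789 := by
      have h : lgList.all (fun w => Nat.beq (tab.walk 789 w) 789) = true := by decide +kernel
      refine Fin.ext ?_
      rw [walk_apply (lt_five hlg), List.getD_eq_getElem _ _ hj']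
      exact Nat.eq_of_beq_eq_true (List.all_eq_true.1 h _ (List.getElem_mem hj'))
    have hw5 : ∀ g ∈ w, g < 5 := by
      simp only [same, Bool.and_eq_true] at hw
      exact lettersLt_spec hw.1.1
    rw [Nat.beq_eq, fix_apply hw5 y.isLt, same_eq hw, ← hhom _ hlg, hβ, map_mul, map_mul,
      Equiv.Perm.mul_apply, Equiv.Perm.mul_apply, map_inv, Equiv.Perm.inv_def]
    show φ Q (φ (α _) ((φ Q).symm y)) = y
    rw [hydef, Equiv.symm_apply_apply, hL _ hl789]
  obtain ⟨s, hs, ⟨⟨hs1, hs2⟩, hs3⟩, hs4⟩ : ∃ s ∈ fixList,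
      ((s.1 = e ∧ s.2.1 = kv) ∧ s.2.2.1 = qv) ∧ s.2.2.2.1 = y.val := by
    rcases hfx y.val y.isLt with ((h | h) | h) | h
    · rw [show Nat.beq (labOf y.val) 3 = true from Nat.beq_eq.mpr hlaby] at h
      exact Bool.noConfusion h
    · rw [hfixy 0 (by norm_num) _ hm1] at h; exact Bool.noConfusion h
    · rw [hfixy 1 (by norm_num) _ hm2] at h; exact Bool.noConfusion h
    · exact h
  have hfo := List.all_eq_true.1 fix_ok s hs
  simp only [fixOk, hs1, hs2, hs3, hs4, ← hvdef, ← hudef, Bool.and_eq_true, Nat.blt_eq,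
    Nat.beq_eq] at hfo
  obtain ⟨⟨⟨⟨⟨hr, hl⟩, hq⟩, hqy⟩, hX⟩, hY⟩ := hfo
  have hq4' := lettersLt_spec hq
  obtain ⟨l, hldef⟩ : ∃ l, l = s.2.2.2.2.2.2 := ⟨_, rfl⟩
  obtain ⟨r, hrdef⟩ : ∃ r, r = s.2.2.2.2.2.1 := ⟨_, rfl⟩
  rw [← hldef] at hl hX hY
  rw [← hrdef] at hr hX hY
  have hlw := lw_ok
  simp only [lwOk, List.all_eq_true, List.mem_range, Bool.and_eq_true, Nat.beq_eq] at hlw
  obtain ⟨⟨⟨⟨hlw4, -⟩, hlw7⟩, -⟩, -⟩ := hlw l hl
  have hlw4' := lettersLt_spec hlw4
  obtain ⟨P, hPdef⟩ : ∃ P, P = act genH s.2.2.2.2.1 := ⟨_, rfl⟩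
  have hPP : P ∈ subP := hPdef ▸ act_mem_subP hq4'
  have hPy : φ P (pt 789) = y := Fin.ext (by rw [hPdef, walk_apply (lt_five hq4')]; exact hqy)
  refine ⟨Q⁻¹ * P * act genH (lwWord l),
    mul_mem (mul_mem (inv_mem hQ) hPP) (act_mem_subP hlw4'), ?_, r, hr, ?_, ?_⟩
  · rw [map_mul, map_mul, Equiv.Perm.mul_apply, Equiv.Perm.mul_apply,
      show φ (act genH (lwWord l)) (pt 789) = pt 789 from
        Fin.ext ((walk_apply (lt_five hlw4') _).trans hlw7),
      hPy, map_inv, Equiv.Perm.inv_def, (Equiv.symm_apply_eq _).2 hydef]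
  · have h' := same_eq hX
    rw [act_append, act_append, act_inv genH_inv4 hq4', ← hPdef, ← hx, hβ,
      conjW_act hlw4'] at h'
    rw [show (Q⁻¹ * P * act genH (lwWord l)) * act genH (repXW r) *
      (Q⁻¹ * P * act genH (lwWord l))⁻¹ = Q⁻¹ * P * (act genH (lwWord l) * act genH (repXW r) *
        (act genH (lwWord l))⁻¹) * P⁻¹ * Q by group, ← h']
    group
  · have h' := same_eq hY
    rw [act_append, act_append, act_inv genH_inv4 hq4', ← hPdef, ← hy, hβ,
      conjW_act hlw4'] at h'
    rw [show (Q⁻¹ * P * act genH (lwWord l)) * act genH (repYW r) *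
      (Q⁻¹ * P * act genH (lwWord l))⁻¹ = Q⁻¹ * P * (act genH (lwWord l) * act genH (repYW r) *
        (act genH (lwWord l))⁻¹) * P⁻¹ * Q by group, ← h']
    group

end CfsgLib.RuUniq
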