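import Mathlib

/-!
# The relators (generated)
-/

set_option autoImplicit false
set_option maxRecDepth 100000

namespace CfsgLib.RuUniq

/-- The order relator of the cyclic subgroup. -/
def relsP : List (List ℕ) :=
  [[1, 2, 1, 2, 1, 2, 1, 2, 1, 2, 1, 2, 1, 2, 1, 2, 1, 2, 1, 2, 1, 2, 1, 2, 1, 2, 1, 2, 1, 2, 1,
      2],
    [2, 2, 2, 2],
    [0, 0, 0, 0, 0, 0, 0, 0],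
    [0, 2, 0, 2, 0, 2, 0, 2],
    [0, 0, 0, 0, 2, 0, 0, 0, 0, 3],
    [0, 2, 0, 3, 3, 3, 0, 2, 0, 3, 3, 3],
    [0, 0, 0, 0, 0, 2, 0, 2, 1, 1, 1, 2, 0, 2],
    [0, 0, 0, 0, 3, 1, 2, 0, 2, 0, 2, 0, 2, 1, 1, 2],
    [0, 0, 0, 0, 3, 1, 2, 2, 0, 0, 0, 0, 3, 3, 0, 2],
    [0, 0, 0, 2, 0, 0, 2, 0, 3, 0, 0, 3, 0, 3, 0, 2],
    [0, 0, 0, 2, 0, 0, 2, 1, 3, 0, 0, 3, 0, 3, 1, 2],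
    [0, 0, 0, 2, 0, 2, 1, 2, 2, 1, 2, 0, 2, 1, 2, 2],
    [0, 0, 2, 0, 0, 3, 0, 0, 3, 0, 3, 1, 1, 2, 1, 2],
    [0, 0, 2, 0, 0, 3, 1, 1, 3, 0, 3, 0, 0, 2, 1, 2],
    [0, 0, 2, 0, 2, 1, 1, 2, 2, 0, 3, 1, 3, 0, 2, 2],
    [0, 0, 2, 0, 2, 1, 1, 3, 3, 0, 3, 1, 3, 0, 2, 2],
    [0, 0, 2, 0, 3, 0, 3, 3, 0, 0, 2, 2, 1, 2, 1, 3],
    [0, 0, 2, 0, 3, 0, 3, 3, 0, 0, 3, 3, 1, 2, 1, 3],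
    [0, 0, 2, 0, 3, 1, 1, 2, 2, 2, 0, 3, 0, 2, 1, 2],
    [0, 0, 2, 0, 3, 1, 1, 3, 0, 2, 2, 2, 0, 2, 1, 2],
    [0, 0, 2, 0, 3, 1, 1, 3, 0, 3, 0, 2, 1, 3, 3, 3],
    [0, 0, 2, 1, 1, 3, 0, 0, 3, 0, 3, 0, 0, 2, 1, 2],
    [0, 0, 2, 1, 1, 3, 1, 2, 0, 2, 2, 0, 2, 2, 0, 3]]

/-- The relators of the point stabiliser. -/
def relsH : List (List ℕ) :=
  relsP ++ [[4, 4],
    [0, 2, 0, 4, 2, 0, 2, 0, 4, 2],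
    [0, 2, 0, 2, 4, 0, 2, 4, 3, 1, 4],
    [0, 3, 4, 0, 3, 4, 0, 3, 4, 0, 3, 4],
    [0, 4, 1, 3, 4, 1, 3, 4, 2, 0, 4, 2],
    [0, 4, 1, 3, 4, 2, 0, 4, 1, 3, 4, 2],
    [0, 4, 2, 0, 4, 2, 0, 4, 2, 0, 4, 2],
    [0, 0, 4, 0, 4, 0, 2, 2, 1, 2, 0, 2, 4],
    [0, 0, 0, 3, 0, 0, 0, 3, 4, 1, 3, 1, 3, 4],
    [0, 0, 2, 0, 2, 2, 1, 4, 1, 3, 4, 3, 0, 3],
    [0, 0, 3, 3, 1, 4, 1, 4, 1, 2, 4, 3, 1, 4],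
    [0, 2, 0, 2, 1, 2, 1, 2, 4, 2, 0, 4, 0, 3],
    [0, 2, 0, 4, 3, 3, 3, 0, 2, 0, 4, 3, 3, 3],
    [0, 2, 1, 3, 4, 2, 0, 3, 1, 4, 0, 4, 1, 4],
    [0, 0, 4, 0, 2, 0, 0, 4, 0, 2, 0, 0, 4, 0, 2],
    [0, 0, 4, 0, 2, 0, 4, 2, 4, 1, 3, 4, 0, 3, 4]]

/-- The relators of the element swapping an edge. -/
def relsA : List (List ℕ) :=
  [[5, 5],
    [5, 0, 5, 0],
    [5, 2, 5, 2, 1, 2, 1, 3, 0]]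

/-- The relators of the group. -/
def relsG : List (List ℕ) :=
  relsH ++ relsA ++ [[4, 5, 4, 5, 4, 5]]

/-- The relators of the case that collapses. -/
def relsB : List (List ℕ) :=
  relsH ++ relsA ++ [[4, 5, 4, 5, 4, 5, 0, 3, 3, 0, 3, 1, 2, 0, 3, 3, 1, 1]]

end CfsgLib.RuUniq
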