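import Cfsg.Agent.Lib.PresCert.Fast
import Cfsg.Agent.Lib.PresCert.Chain
import Cfsg.Agent.Lib.PresCert.PairedBound
import Cfsg.Agent.Lib.RuUniq.TabData
import Cfsg.Agent.Lib.RuUniq.RelsData

/-!
# The table of the amalgam and words in paired letters

The letters are `x, x⁻¹, y, y⁻¹, h, g`; `h` and `g` are their own inverses. The first five act on
1755 points.
-/

set_option autoImplicit false

namespace CfsgLib.RuUniq

open CfsgLib.PresCert

/-- The numbering of the inverse letters. -/
def iv : ℕ → ℕ
  | 0 => 1
  | 1 => 0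
  | 2 => 3
  | 3 => 2
  | n => n

/-- The inverse of a word. -/
abbrev wInv (w : List ℕ) : List ℕ := Paired.invW iv w

/-- The column of a letter. -/
noncomputable def colOf (g i : ℕ) : ℕ :=
  Bool.rec (motive := fun _ => ℕ)
    (Bool.rec (motive := fun _ => ℕ) (col4 i)
      (Bool.rec (motive := fun _ => ℕ) (col3 i) (col2 i) (Nat.beq g 2)) (Nat.blt g 4))
    (Bool.rec (motive := fun _ => ℕ) (col1 i) (col0 i) (Nat.beq g 0)) (Nat.blt g 2)

/-- The table. -/
noncomputable def tab : Fast.Tab where
  ng := 5
  n := 1755
  img g i := Nat.land (Nat.shiftRight (colOf g i) (11 * (i % 64))) 2047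

/-- The table is a table of paired letters. -/
noncomputable def tabPairedB : Bool :=
  (List.range 1755).all fun i => (List.range 5).all fun g =>
    Nat.blt (tab.img g i) 1755 && Nat.beq (tab.img (iv g) (tab.img g i)) i

/-- A word fixes every point of the table. -/
noncomputable def fixAll (w : List ℕ) : Bool := (List.range 1755).all fun i => Nat.beq (tab.walk i w) i

/-- The letters are among the first `n`. -/
def lettersLt (n : ℕ) (w : List ℕ) : Bool := w.all fun g => Nat.blt g n

theorem iv_lt4 {g : ℕ} (h : g < 4) : iv g < 4 := by interval_cases g <;> decide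

theorem iv_iv (g : ℕ) : iv (iv g) = g := by
  rcases g with _ | _ | _ | _ | n <;> rfl

theorem lettersLt_spec {n : ℕ} {w : List ℕ} (h : lettersLt n w = true) : ∀ g ∈ w, g < n := by
  simpa [lettersLt, Nat.blt_eq] using h

theorem wInv_lt {n : ℕ} (hn : ∀ g, g < n → iv g < n) {w : List ℕ} (h : ∀ g ∈ w, g < n) :
    ∀ g ∈ wInv w, g < n := by
  intro g hg
  rw [wInv, Paired.invW, List.mem_reverse, List.mem_map] at hg
  obtain ⟨a, ha, rfl⟩ := hg
  exact hn a (h a ha)

section act

variable {M : Type*} [Group M] {gen : ℕ → M}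

theorem act_inv {n : ℕ} (hinv : ∀ g, g < n → gen g * gen (iv g) = 1) :
    ∀ {w : List ℕ}, (∀ g ∈ w, g < n) → act gen (wInv w) = (act gen w)⁻¹
  | [], _ => by simp [wInv, Paired.invW, act_nil]
  | g :: w, hw => by
    have e : wInv (g :: w) = wInv w ++ [iv g] := by simp [wInv, Paired.invW]
    rw [e, act_append, act_cons, act_cons, act_nil, one_mul,
      act_inv hinv (fun a ha => hw a (by simp [ha])), mul_inv_rev,
      inv_eq_of_mul_eq_one_right (hinv g (hw g (by simp)))]

theorem act_one_letter (g : ℕ) : act gen [g] = gen g := by rw [act_cons, act_nil, one_mul]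

/-- Substituting words for the first four letters. -/
def subst (u v : List ℕ) (w : List ℕ) : List ℕ := expand [u, wInv u, v, wInv v] w

theorem act_mem_genGrp {S : List (List ℕ)} {w : List ℕ}
    (hs : ∀ g ∈ w, gen g ∈ genGrp S gen) : act gen w ∈ genGrp S gen := by
  induction w with
  | nil => exact Subgroup.one_mem _
  | cons g w ih =>
    rw [act_cons]
    exact Subgroup.mul_mem _ (ih fun a ha => hs a (by simp [ha])) (hs g (by simp))

end act

end CfsgLib.RuUniq
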