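import Cfsg.Agent.Lib.RuUniq.HBound

/-!
# An edge of a rank three action on 4060 points

The suborbit of size 1755 is self-paired, and some element swapping an edge fixes a point of a
triangle over it.
-/

set_option autoImplicit false
set_option maxRecDepth 100000

namespace CfsgLib.RuUniq

open CfsgLib.PresCert MulAction

/-- A point, its suborbit of size 1755 with the action of the stabiliser, and the rest. -/
structure Edge (G Ω : Type*) [Group G] [MulAction G Ω] where
  /-- The point. -/
  a : Ω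
  /-- The suborbit. -/
  θ : Fin 1755 → Ω
  /-- The stabiliser of the point. -/
  ι : Hp →* G
  inj : Function.Injective ι
  θinj : Function.Injective θ
  card : Nat.card Ω = 4060
  faithful : ∀ g : G, (∀ x : Ω, g • x = x) → g = 1
  trans : ∀ p q : Ω, ∃ g : G, g • p = q
  range : ∀ g : G, g • a = a ↔ g ∈ ι.range
  equiv : ∀ (m : Hp) (i : Fin 1755), ι m • θ i = θ (φ m i)
  a_out : ∀ i, θ i ≠ a
  rest : ∀ p q : Ω, p ≠ a → p ∉ Set.range θ → q ≠ a → q ∉ Set.range θ → ∃ k : Hp, ι k • p = q

variable {G Ω : Type*} [Group G] [MulAction G Ω] (E : Edge G Ω)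

namespace Edge

/-- The neighbour. -/
def b : Ω := E.θ (pt 0)

/-- The third point of a triangle. -/
def d : Ω := E.θ (pt 789)

include E in
theorem finite : Finite Ω := Nat.finite_of_card_ne_zero (by rw [E.card]; norm_num)

theorem fix_a (m : Hp) : E.ι m • E.a = E.a := (E.range _).2 ⟨m, rfl⟩

theorem fix_b {m : Hp} : E.ι m • E.b = E.b ↔ m ∈ subP := by
  rw [mem_subP, Edge.b, E.equiv]
  exact ⟨fun h => E.θinj h, fun h => by rw [h]⟩

theorem fix_d {m : Hp} : E.ι m • E.d = E.d ↔ φ m (pt 789) = pt 789 := by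
  rw [Edge.d, E.equiv]
  exact ⟨fun h => E.θinj h, fun h => by rw [h]⟩

theorem b_ne : E.b ≠ E.a := E.a_out _

/-- The elements fixing the edge. -/
theorem mem_edge {g : G} (ha : g • E.a = E.a) (hb : g • E.b = E.b) : ∃ m ∈ subP, g = E.ι m := by
  obtain ⟨m, rfl⟩ := (E.range g).1 ha
  exact ⟨m, E.fix_b.1 hb, rfl⟩

theorem exists_swap : ∃ g : G, g • E.a = E.b ∧ g • E.b = E.a := by
  classical
  haveI := E.finite
  haveI := Fintype.ofFinite Ω
  obtain ⟨h, hh⟩ := E.trans E.a E.b
  obtain ⟨a', ha'⟩ : ∃ a', a' = h⁻¹ • E.a := ⟨_, rfl⟩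
  by_cases hB : a' ∈ Set.range E.θ
  · obtain ⟨i, hi⟩ := hB
    obtain ⟨k, hk⟩ := trans_φ i
    have e : E.ι k⁻¹ • a' = E.b := by
      rw [← hi, E.equiv, Edge.b]
      congr 1
      rw [map_inv, Equiv.Perm.inv_def, Equiv.symm_apply_eq, hk]
    refine ⟨E.ι k⁻¹ * h⁻¹, by rw [mul_smul, ← ha', e], ?_⟩
    rw [mul_smul, ← hh, inv_smul_smul, E.fix_a]
  exfalso
  have hne : a' ≠ E.a := fun e => E.b_ne (by
    rw [← hh]; conv_lhs => rw [← e, ha', smul_inv_smul])
  letI : MulAction Hp Ω := MulAction.compHom _ E.ι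
  have horb : MulAction.orbit Hp a' =
      (((Finset.univ : Finset Ω) \ insert E.a (Finset.univ.image E.θ) : Finset Ω) : Set Ω) := by
    ext q
    simp only [MulAction.mem_orbit_iff, Finset.coe_sdiff, Finset.coe_univ, Set.mem_diff,
      Set.mem_univ, true_and, Finset.coe_insert, Finset.coe_image, Set.image_univ,
      Set.mem_insert_iff, not_or]
    constructor
    · rintro ⟨k, rfl⟩
      refine ⟨fun e => hne ?_, fun ⟨i, hi⟩ => hB ⟨φ k⁻¹ i, ?_⟩⟩
      · have : E.ι k • a' = E.a := e
        rw [← E.fix_a k] at this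
        exact smul_left_cancel _ this
      · rw [← E.equiv, hi, map_inv]
        exact inv_smul_smul (E.ι k) a'
    · rintro ⟨h1, h2⟩
      obtain ⟨k, hk⟩ := E.rest a' q hne hB h1 h2
      exact ⟨k, hk⟩
  have hc : (MulAction.orbit Hp a').ncard = 2304 := by
    rw [horb, Set.ncard_coe_finset, Finset.card_sdiff_of_subset (Finset.subset_univ _),
      Finset.card_insert_of_notMem, Finset.card_image_of_injective _ E.θinj, Finset.card_univ,
      Finset.card_univ, Fintype.card_fin, ← Nat.card_eq_fintype_card, E.card]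
    simp only [Finset.mem_image, Finset.mem_univ, true_and, not_exists]
    exact E.a_out
  have h1 := Nat.card_congr (MulAction.orbitProdStabilizerEquivGroup Hp a')
  rw [Nat.card_prod, Nat.card_coe_set_eq, hc, card_hp] at h1
  have h2 : Nat.card (MulAction.stabilizer Hp a') = Nat.card subP := by
    let f : MulAction.stabilizer Hp a' → subP := fun m =>
      ⟨(E.mem_edge (g := h * E.ι m.1 * h⁻¹)
        (by rw [mul_smul, mul_smul, ← ha', show E.ι m.1 • a' = a' from m.2, ha', smul_inv_smul])
        (by rw [mul_smul, mul_smul, ← hh, inv_smul_smul, E.fix_a])).choose,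
       (E.mem_edge (g := h * E.ι m.1 * h⁻¹)
        (by rw [mul_smul, mul_smul, ← ha', show E.ι m.1 • a' = a' from m.2, ha', smul_inv_smul])
        (by rw [mul_smul, mul_smul, ← hh, inv_smul_smul, E.fix_a])).choose_spec.1⟩
    have hf : ∀ m, E.ι (f m).1 = h * E.ι m.1 * h⁻¹ := fun m =>
      (E.mem_edge (g := h * E.ι m.1 * h⁻¹)
        (by rw [mul_smul, mul_smul, ← ha', show E.ι m.1 • a' = a' from m.2, ha', smul_inv_smul])
        (by rw [mul_smul, mul_smul, ← hh, inv_smul_smul, E.fix_a])).choose_spec.2.symm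
    refine Nat.card_eq_of_bijective f ⟨fun m m' e => ?_, fun n => ?_⟩
    · have := congrArg (fun z : subP => E.ι z.1) e
      simp only [hf, mul_left_inj, mul_right_inj] at this
      exact Subtype.ext (E.inj this)
    · have hb : (h⁻¹ * E.ι n.1 * h) • E.a = E.a := by
        rw [mul_smul, mul_smul, hh, E.fix_b.2 n.2, ← hh, inv_smul_smul]
      obtain ⟨m, hm⟩ := (E.range _).1 hb
      refine ⟨⟨m, ?_⟩, Subtype.ext (E.inj ?_)⟩
      · show E.ι m • a' = a'
        rw [hm, ha', mul_smul, mul_smul, smul_inv_smul, E.fix_a]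
      · rw [hf, hm]
        group
  rw [h2, card_subP] at h1
  omega

/-- `q` is in the suborbit of size 1755 of `p`. -/
def R (p q : Ω) : Prop := ∃ u : G, u • E.a = p ∧ u⁻¹ • q ∈ Set.range E.θ

theorem R_smul {p q : Ω} (v : G) (h : E.R p q) : E.R (v • p) (v • q) := by
  obtain ⟨u, h1, h2⟩ := h
  exact ⟨v * u, by rw [mul_smul, h1], by rwa [mul_inv_rev, mul_smul, inv_smul_smul]⟩

theorem range_invariant (k : Hp) {q : Ω} (h : q ∈ Set.range E.θ) :
    E.ι k • q ∈ Set.range E.θ := by
  obtain ⟨i, rfl⟩ := h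
  exact ⟨φ k i, (E.equiv k i).symm⟩

theorem R_iff {q : Ω} {u : G} : E.R (u • E.a) q ↔ u⁻¹ • q ∈ Set.range E.θ := by
  refine ⟨fun ⟨v, h1, h2⟩ => ?_, fun h => ⟨u, rfl, h⟩⟩
  obtain ⟨k, hk⟩ := (E.range (u⁻¹ * v)).1 (by rw [mul_smul, h1, inv_smul_smul])
  have := E.range_invariant k h2
  rwa [hk, ← mul_smul, mul_inv_cancel_right] at this

theorem R_a {q : Ω} : E.R E.a q ↔ q ∈ Set.range E.θ := by
  have := E.R_iff (u := 1) (q := q)
  rwa [one_smul, inv_one, one_smul] at this

theorem R_symm {p q : Ω} (h : E.R p q) : E.R q p := by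
  obtain ⟨u, rfl, i, hi⟩ := h
  obtain ⟨g, hga, hgb⟩ := E.exists_swap
  obtain ⟨k, hk⟩ := trans_φ i
  have e : q = (u * E.ι k * g) • E.a := by
    rw [mul_smul, mul_smul, hga, Edge.b, E.equiv, hk, hi, smul_inv_smul]
  rw [e, E.R_iff]
  have hx : (u * E.ι k * g)⁻¹ • u • E.a = E.b := by
    rw [inv_smul_eq_iff, mul_smul, mul_smul, hgb, E.fix_a]
  rw [hx]
  exact ⟨pt 0, rfl⟩

end Edge

/-- Every point is reached from the root of its orbit. -/
theorem root_reach (i : Fin 1755) : ∃ m ∈ subP, ∃ r : Fin 1755,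
    r.val = roots.getD (labOf i.val) 0 ∧ φ m r = i := by
  obtain ⟨m, hm, hmi⟩ := orbForest_ok.reach realised i
  exact ⟨m, hm, _, rfl, hmi⟩

/-- A set of points invariant under the subgroup is a union of its orbits. -/
theorem invariant_union (S : Finset (Fin 1755)) (hS : ∀ m ∈ subP, ∀ i ∈ S, φ m i ∈ S) :
    ∃ e : ℕ → Bool, (∀ i : Fin 1755, i ∈ S ↔ e (labOf i.val) = true) ∧
      S.card = (if e 0 then 1 else 0) + (if e 1 then 10 else 0) + (if e 2 then 80 else 0) +
        (if e 3 then 640 else 0) + (if e 4 then 1024 else 0) := by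
  classical
  have hlen : orbForest.roots.length = 5 := by decide +kernel
  let e : ℕ → Bool := fun k => decide (∃ j ∈ S, labOf j.val = k)
  have hiff : ∀ i : Fin 1755, i ∈ S ↔ e (labOf i.val) = true := fun i => by
    simp only [e, decide_eq_true_eq]
    refine ⟨fun h => ⟨i, h, rfl⟩, fun ⟨j, hj, hl⟩ => ?_⟩
    obtain ⟨m, hm, r, hr, hmi⟩ := root_reach i
    obtain ⟨n, hn, r', hr', hnj⟩ := root_reach j
    obtain rfl : r = r' := Fin.ext (by rw [hr, hr', hl])
    have hij : φ (m * n⁻¹) j = i := by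
      rw [map_mul, Equiv.Perm.mul_apply, map_inv, Equiv.Perm.inv_def,
        (Equiv.symm_apply_eq _).2 hnj.symm, hmi]
    rw [← hij]
    exact hS _ (mul_mem hm (inv_mem hn)) j hj
  refine ⟨e, hiff, ?_⟩
  have hfib : ∀ k, k < 5 → (S.filter fun i => labOf i.val = k).card =
      if e k then labCount k else 0 := by
    intro k hk
    split
    next h =>
      rw [labCount, ← List.toFinset_card_of_nodup (List.nodup_range.filter _)]
      refine Finset.card_bij (fun q _ => q.val) (fun q hq => ?_) (fun x _ y _ he => Fin.ext he)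
        fun v hv => ?_
      · simp only [List.mem_toFinset, List.mem_filter, List.mem_range, Nat.beq_eq]
        exact ⟨q.isLt, (Finset.mem_filter.1 hq).2⟩
      · simp only [List.mem_toFinset, List.mem_filter, List.mem_range, Nat.beq_eq] at hv
        refine ⟨⟨v, hv.1⟩, Finset.mem_filter.2 ⟨(hiff _).2 ?_, hv.2⟩, rfl⟩
        show e (labOf v) = true
        rw [hv.2, h]
    next h =>
      rw [Finset.card_eq_zero, Finset.filter_eq_empty_iff]
      intro i hi hl
      exact h (hl ▸ (hiff i).1 hi)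
  obtain ⟨c0, c1, c2, c3, c4⟩ := lab_counts
  rw [Finset.card_eq_sum_card_fiberwise (s := S) (t := Finset.range 5)
    (f := fun i : Fin 1755 => labOf i.val) fun i _ => Finset.mem_range.2 (by
      have := (orbForest_ok.spec i.isLt).2.1
      change labOf i.val < orbForest.roots.length at this
      rw [hlen] at this
      exact this)]
  simp only [Finset.sum_range_succ, Finset.sum_range_zero, zero_add, hfib 0 (by norm_num),
    hfib 1 (by norm_num), hfib 2 (by norm_num), hfib 3 (by norm_num), hfib 4 (by norm_num),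
    c0, c1, c2, c3, c4]

variable (E : Edge G Ω)

/-- An element swapping the edge and fixing the third point of a triangle. -/
theorem exists_flag : ∃ g : G, g • E.a = E.b ∧ g • E.b = E.a ∧ g • E.d = E.d := by
  classical
  haveI := E.finite
  haveI := Fintype.ofFinite Ω
  obtain ⟨g, hga, hgb⟩ := E.exists_swap
  have hgi : g⁻¹ • E.b = E.a := by rw [inv_smul_eq_iff, hga]
  have hgi2 : g⁻¹ • E.a = E.b := by rw [inv_smul_eq_iff, hgb]
  set S : Finset (Fin 1755) := Finset.univ.filter fun i => E.R E.b (E.θ i) with hSdef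
  have hS : ∀ m ∈ subP, ∀ i ∈ S, φ m i ∈ S := fun m hm i hi => by
    rw [hSdef, Finset.mem_filter] at hi ⊢
    refine ⟨Finset.mem_univ _, ?_⟩
    have := E.R_smul (E.ι m) hi.2
    rwa [E.fix_b.2 hm, E.equiv] at this
  obtain ⟨e, he, hcard⟩ := invariant_union S hS
  have he0 : e 0 = false := by
    cases h : e 0
    · rfl
    exfalso
    have hmem : pt 0 ∈ S := (he _).2 (by show e (labOf 0) = true; rw [lab_special.1, h])
    rw [hSdef, Finset.mem_filter] at hmem
    have h2 := hmem.2
    change E.R E.b E.b at h2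
    rw [← hga, E.R_iff, hga, hgi] at h2
    obtain ⟨i, hi⟩ := h2
    exact E.a_out i hi
  set B := Finset.univ.image E.θ with hB
  set C := (Finset.univ : Finset Ω) \ insert E.a B with hC
  have hBmem : ∀ q, q ∈ B ↔ q ∈ Set.range E.θ := fun q => by simp [hB]
  have haB : E.a ∉ B := fun h => by
    obtain ⟨i, -, hi⟩ := Finset.mem_image.1 h
    exact E.a_out i hi
  have hBc : B.card = 1755 := by
    rw [hB, Finset.card_image_of_injective _ E.θinj, Finset.card_univ, Fintype.card_fin]
  have hCc : C.card = 2304 := by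
    rw [hC, Finset.card_sdiff_of_subset (Finset.subset_univ _), Finset.card_insert_of_notMem haB,
      hBc, Finset.card_univ, ← Nat.card_eq_fintype_card, E.card]
  have hCinv : ∀ (k : Hp) (q : Ω), q ∈ C → E.ι k • q ∈ C := by
    intro k q hq
    simp only [hC, Finset.mem_sdiff, Finset.mem_univ, true_and, Finset.mem_insert, not_or,
      hBmem] at hq ⊢
    refine ⟨fun h => hq.1 ?_, fun h => hq.2 ?_⟩
    · rw [← E.fix_a k] at h
      exact smul_left_cancel _ h
    · have := E.range_invariant k⁻¹ h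
      rwa [map_inv, inv_smul_smul] at this
  -- the number of neighbours of `b` in the third orbit
  have hbC : (C.filter fun c => E.R E.b c).card + S.card + 1 = 1755 := by
    have hU : ((Finset.univ : Finset Ω).filter fun q => E.R E.b q).card = 1755 := by
      rw [← hBc]
      refine (Finset.card_bij (fun q _ => g • q) (fun q hq => ?_) (fun x _ y _ h =>
        smul_left_cancel g h) fun q hq => ⟨g⁻¹ • q, ?_, smul_inv_smul g q⟩).symm
      · refine Finset.mem_filter.2 ⟨Finset.mem_univ _, ?_⟩
        rw [← hga, E.R_iff, inv_smul_smul]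
        exact (hBmem q).1 hq
      · rw [hBmem, ← E.R_iff, hga]
        exact (Finset.mem_filter.1 hq).2
    have hS' : (B.filter fun q => E.R E.b q).card = S.card := by
      rw [hB, Finset.filter_image, Finset.card_image_of_injective _ E.θinj]
    have hsplit : (Finset.univ : Finset Ω).filter (fun q => E.R E.b q) =
        insert E.a ((B.filter fun q => E.R E.b q) ∪ C.filter fun q => E.R E.b q) := by
      ext q
      simp only [Finset.mem_filter, Finset.mem_univ, true_and, Finset.mem_insert, Finset.mem_union,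
        hC, Finset.mem_sdiff]
      constructor
      · intro h
        by_cases h1 : q = E.a
        · exact Or.inl h1
        by_cases h2 : q ∈ B
        · exact Or.inr (Or.inl ⟨h2, h⟩)
        · exact Or.inr (Or.inr ⟨fun h3 => h3.elim h1 h2, h⟩)
      · rintro (rfl | h | h)
        · rw [← hga, E.R_iff, hgi2]
          exact ⟨pt 0, rfl⟩
        · exact h.2
        · exact h.2
    rw [hsplit, Finset.card_insert_of_notMem, Finset.card_union_of_disjoint, hS'] at hU
    · omega
    · rw [Finset.disjoint_left]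
      intro q h1 h2
      simp only [hC, Finset.mem_filter, Finset.mem_sdiff, Finset.mem_insert, not_or] at h1 h2
      exact h2.1.2.2 h1.1
    · simp only [Finset.mem_union, Finset.mem_filter, hC, Finset.mem_sdiff, Finset.mem_insert,
        not_or, not_and]
      exact ⟨fun h => absurd h haB, fun h => absurd trivial h.2.1⟩
  have hrow : ∀ x ∈ B, (C.filter fun c => E.R x c).card = (C.filter fun c => E.R E.b c).card := by
    intro x hx
    obtain ⟨i, rfl⟩ := (hBmem x).1 hx
    obtain ⟨k, hk⟩ := trans_φ i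
    have hkb : E.ι k • E.b = E.θ i := by rw [Edge.b, E.equiv, hk]
    refine (Finset.card_bij (fun q _ => E.ι k • q) (fun q hq => ?_)
      (fun x _ y _ h => smul_left_cancel _ h) fun q hq => ?_).symm
    · rw [Finset.mem_filter] at hq ⊢
      exact ⟨hCinv k q hq.1, hkb ▸ E.R_smul _ hq.2⟩
    · rw [Finset.mem_filter] at hq
      refine ⟨E.ι k⁻¹ • q, Finset.mem_filter.2 ⟨hCinv _ q hq.1, ?_⟩, by
        rw [map_inv, smul_inv_smul]⟩
      have := E.R_smul (E.ι k⁻¹) hq.2
      rwa [← hkb, map_inv, inv_smul_smul, ← map_inv] at this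
  obtain ⟨c0, hc0⟩ : C.Nonempty := Finset.card_pos.1 (by omega)
  have hcol : ∀ c ∈ C, (B.filter fun x => E.R x c).card = (B.filter fun x => E.R x c0).card := by
    intro c hc
    have h0 := hc0
    simp only [hC, Finset.mem_sdiff, Finset.mem_univ, true_and, Finset.mem_insert, not_or,
      hBmem] at h0 hc
    obtain ⟨k, hk⟩ := E.rest c0 c h0.1 h0.2 hc.1 hc.2
    refine (Finset.card_bij (fun q _ => E.ι k • q) (fun q hq => ?_)
      (fun x _ y _ h => smul_left_cancel _ h) fun q hq => ?_).symm
    · rw [Finset.mem_filter, hBmem] at hq ⊢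
      exact ⟨E.range_invariant k hq.1, hk ▸ E.R_smul _ hq.2⟩
    · rw [Finset.mem_filter, hBmem] at hq
      refine ⟨E.ι k⁻¹ • q, ?_, by rw [map_inv, smul_inv_smul]⟩
      rw [Finset.mem_filter, hBmem]
      refine ⟨E.range_invariant _ hq.1, ?_⟩
      have := E.R_smul (E.ι k⁻¹) hq.2
      rwa [← hk, map_inv, inv_smul_smul, ← map_inv] at this
  have hcount := Finset.sum_card_bipartiteAbove_eq_sum_card_bipartiteBelow (s := B) (t := C)
    (r := fun x c => E.R x c)
  simp only [Finset.bipartiteAbove, Finset.bipartiteBelow] at hcount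
  rw [Finset.sum_congr rfl hrow, Finset.sum_congr rfl hcol, Finset.sum_const, Finset.sum_const,
    smul_eq_mul, smul_eq_mul, hBc, hCc] at hcount
  have he3 : e 3 = true := by
    cases h3 : e 3
    swap
    · rfl
    exfalso
    rw [he0, h3] at hcard
    cases h1 : e 1 <;> cases h2 : e 2 <;> cases h4 : e 4 <;>
      simp only [h1, h2, h4, if_true, if_false, Bool.false_eq_true] at hcard <;> omega
  -- the orbit of size 640 is mapped to itself
  have hmap : ∀ i : Fin 1755, labOf i.val = 3 → g • E.θ i ∈ Set.range E.θ := by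
    intro i hi
    have hiS : i ∈ S := (he i).2 (by rw [hi]; exact he3)
    have := E.R_smul g ((Finset.mem_filter.1 hiS).2)
    rwa [hgb, E.R_a] at this
  obtain ⟨f, hf⟩ : ∃ f : Fin 1755 → Fin 1755, ∀ i, labOf i.val = 3 → g • E.θ i = E.θ (f i) := by
    refine ⟨fun i => if h : labOf i.val = 3 then (hmap i h).choose else i, fun i hi => ?_⟩
    simp only [dif_pos hi]
    exact ((hmap i hi).choose_spec).symm
  set O3 : Finset (Fin 1755) := Finset.univ.filter fun i => labOf i.val = 3
  have hconj : ∀ m ∈ subP, ∃ n ∈ subP, E.ι m * g = g * E.ι n := fun m hm => by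
    obtain ⟨n, hn, e⟩ := E.mem_edge (g := g⁻¹ * E.ι m * g)
      (by rw [mul_smul, mul_smul, hga, E.fix_b.2 hm, hgi])
      (by rw [mul_smul, mul_smul, hgb, E.fix_a, hgi2])
    exact ⟨n, hn, by rw [← e]; group⟩
  have hT : ∀ m ∈ subP, ∀ j ∈ O3.image f, φ m j ∈ O3.image f := by
    intro m hm j hj
    obtain ⟨i, hi, rfl⟩ := Finset.mem_image.1 hj
    rw [Finset.mem_filter] at hi
    obtain ⟨n, hn, e⟩ := hconj m hm
    have hni : labOf (φ n i).val = 3 := (orbForest_ok.invariant realised hn i).trans hi.2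
    refine Finset.mem_image.2 ⟨φ n i, Finset.mem_filter.2 ⟨Finset.mem_univ _, hni⟩, E.θinj ?_⟩
    rw [← hf _ hni, ← E.equiv, ← E.equiv, ← mul_smul, ← e, mul_smul, hf i hi.2]
  obtain ⟨e', he', hcard'⟩ := invariant_union (O3.image f) hT
  have hO3 : O3.card = 640 := by
    rw [← lab_counts.2.2.2.1, labCount,
      ← List.toFinset_card_of_nodup (List.nodup_range.filter _)]
    refine Finset.card_bij (fun q _ => q.val) (fun q hq => ?_) (fun x _ y _ h => Fin.ext h)
      fun v hv => ?_
    · simp only [List.mem_toFinset, List.mem_filter, List.mem_range, Nat.beq_eq]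
      exact ⟨q.isLt, (Finset.mem_filter.1 hq).2⟩
    · simp only [List.mem_toFinset, List.mem_filter, List.mem_range, Nat.beq_eq] at hv
      exact ⟨⟨v, hv.1⟩, Finset.mem_filter.2 ⟨Finset.mem_univ _, hv.2⟩, rfl⟩
  have hfi : (O3.image f).card = 640 := by
    rw [Finset.card_image_of_injOn, hO3]
    intro x hx y hy hxy
    have hx' := (Finset.mem_filter.1 hx).2
    have hy' := (Finset.mem_filter.1 hy).2
    refine E.θinj (smul_left_cancel g ?_)
    rw [hf x hx', hf y hy', hxy]
  have he'3 : e' 3 = true := by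
    cases h3 : e' 3
    swap
    · rfl
    exfalso
    rw [hfi, h3] at hcard'
    cases h0 : e' 0 <;> cases h1 : e' 1 <;> cases h2 : e' 2 <;> cases h4 : e' 4 <;>
      simp only [h0, h1, h2, h4, if_true, if_false, Bool.false_eq_true] at hcard' <;> omega
  have hd : pt 789 ∈ O3.image f := (he' _).2 (by
    show e' (labOf 789) = true
    rw [lab_special.2.2, he'3])
  obtain ⟨i, hi, hfid⟩ := Finset.mem_image.1 hd
  have hi3 := (Finset.mem_filter.1 hi).2
  obtain ⟨m, hm, r, hr, hmi⟩ := root_reach i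
  have hm0 : φ m (pt 789) = i := by
    refine Eq.trans (congrArg (φ m) (Fin.ext ?_)) hmi
    show 789 = r.val
    rw [hr, hi3]
    rfl
  refine ⟨g * E.ι m, ?_, ?_, ?_⟩
  · rw [mul_smul, E.fix_a, hga]
  · rw [mul_smul, E.fix_b.2 hm, hgb]
  · rw [mul_smul, Edge.d, E.equiv, hm0, hf i hi3, hfid]

end CfsgLib.RuUniq
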