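import Mathlib

/-!
# Words for the elements of the stabiliser of two points (generated)
-/

set_option autoImplicit false
set_option maxRecDepth 100000

namespace CfsgLib.RuUniq

/-- The elements fixing two base points. -/
def swList : List (List ℕ) :=
  [[],
    [0, 0, 2, 1, 2, 0, 2, 2],
    [0, 2, 2, 1, 2, 1, 2, 1, 2],
    [0, 2, 1, 2, 2, 1, 2, 0],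
    [2, 1, 2, 0, 2, 2, 1, 2, 1],
    [1, 1, 3, 1, 3, 0, 3, 0, 3, 1, 2],
    [3, 0, 0, 3, 1, 3, 0, 2],
    [1, 3, 0, 2, 2, 0, 3, 1],
    [3, 0, 3, 0, 2, 2, 0, 0, 0, 2, 1],
    [0, 2, 2, 0, 0, 0, 3, 1, 2, 1],
    [0, 0, 0, 2, 2, 1, 2, 1, 3, 1, 3],
    [1, 2, 1, 2, 2, 0, 3, 0],
    [1, 2, 0, 0, 3, 1, 3, 0, 3, 0],
    [3, 0, 3, 0, 3, 0, 2, 2, 1],
    [2, 2, 1, 3, 0, 3, 1, 1],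
    [2, 0, 3, 1, 3, 0, 0, 3],
    [0, 3, 0, 2, 2, 0, 0, 0, 2, 1, 2],
    [0, 3, 0, 2, 2, 1, 3, 0, 3],
    [1, 2, 1, 1, 2, 1, 2, 2, 1, 3, 0],
    [0, 0, 0, 3, 1, 2, 2, 0, 2, 2, 0]]

/-- Words of the transversal. -/
def twList0 : List (List ℕ) :=
  [[],
    [0],
    [2],
    [0, 0],
    [0, 2],
    [2, 0],
    [2, 2],
    [0, 0, 0],
    [0, 0, 2],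
    [0, 2, 0],
    [0, 2, 2],
    [2, 0, 0],
    [2, 0, 2],
    [2, 2, 0],
    [2, 2, 2],
    [0, 0, 0, 0],
    [0, 0, 0, 2],
    [0, 0, 2, 0],
    [0, 0, 2, 2],
    [0, 2, 0, 0],
    [0, 2, 0, 2],
    [0, 2, 2, 0],
    [0, 2, 2, 2],
    [2, 0, 0, 0],
    [2, 0, 0, 2],
    [2, 0, 2, 0],
    [2, 0, 2, 2],
    [2, 2, 0, 0],
    [2, 2, 0, 2],
    [2, 2, 2, 0],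
    [0, 0, 0, 0, 0],
    [0, 0, 0, 0, 2],
    [0, 0, 0, 2, 0],
    [0, 0, 0, 2, 2],
    [0, 0, 2, 0, 0],
    [0, 0, 2, 0, 2],
    [0, 0, 2, 2, 0],
    [0, 0, 2, 2, 2],
    [0, 2, 0, 0, 0],
    [0, 2, 0, 0, 2],
    [0, 2, 0, 2, 0],
    [0, 2, 0, 2, 2],
    [0, 2, 2, 0, 0],
    [0, 2, 2, 0, 2],
    [0, 2, 2, 2, 0],
    [2, 0, 0, 0, 2],
    [2, 0, 0, 2, 0],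
    [2, 0, 0, 2, 2],
    [2, 0, 2, 0, 0],
    [2, 0, 2, 0, 2],
    [2, 0, 2, 2, 0],
    [2, 0, 2, 2, 2],
    [2, 2, 0, 0, 0],
    [2, 2, 0, 0, 2],
    [2, 2, 0, 2, 0],
    [2, 2, 0, 2, 2],
    [2, 2, 2, 0, 0],
    [2, 2, 2, 0, 2],
    [0, 0, 0, 0, 0, 0],
    [0, 0, 0, 0, 0, 2],
    [0, 0, 0, 0, 2, 0],
    [0, 0, 0, 0, 2, 2],
    [0, 0, 0, 2, 0, 0],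
    [0, 0, 0, 2, 0, 2]]

/-- Words of the transversal. -/
def twList1 : List (List ℕ) :=
  [[0, 0, 0, 2, 2, 0],
    [0, 0, 0, 2, 2, 2],
    [0, 0, 2, 0, 0, 0],
    [0, 0, 2, 0, 0, 2],
    [0, 0, 2, 0, 2, 0],
    [0, 0, 2, 0, 2, 2],
    [0, 0, 2, 2, 0, 0],
    [0, 0, 2, 2, 0, 2],
    [0, 0, 2, 2, 2, 0],
    [0, 2, 0, 0, 0, 2],
    [0, 2, 0, 0, 2, 0],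
    [0, 2, 0, 0, 2, 2],
    [0, 2, 0, 2, 0, 0],
    [0, 2, 0, 2, 0, 2],
    [0, 2, 0, 2, 2, 0],
    [0, 2, 0, 2, 2, 2],
    [0, 2, 2, 0, 0, 0],
    [0, 2, 2, 0, 0, 2],
    [0, 2, 2, 0, 2, 0],
    [0, 2, 2, 0, 2, 2],
    [0, 2, 2, 2, 0, 0],
    [2, 0, 0, 0, 2, 0],
    [2, 0, 0, 2, 0, 0],
    [2, 0, 0, 2, 2, 0],
    [2, 0, 0, 2, 2, 2],
    [2, 0, 2, 0, 0, 0],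
    [2, 0, 2, 0, 0, 2],
    [2, 0, 2, 0, 2, 0],
    [2, 0, 2, 0, 2, 2],
    [2, 0, 2, 2, 0, 0],
    [2, 0, 2, 2, 0, 2],
    [2, 0, 2, 2, 2, 0],
    [2, 2, 0, 0, 0, 2],
    [2, 2, 0, 0, 2, 0],
    [2, 2, 0, 2, 0, 0],
    [2, 2, 0, 2, 0, 2],
    [2, 2, 0, 2, 2, 0],
    [2, 2, 0, 2, 2, 2],
    [2, 2, 2, 0, 0, 0],
    [2, 2, 2, 0, 0, 2],
    [2, 2, 2, 0, 2, 0],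
    [0, 0, 0, 0, 0, 0, 0],
    [0, 0, 0, 0, 0, 0, 2],
    [0, 0, 0, 0, 0, 2, 0],
    [0, 0, 0, 0, 0, 2, 2],
    [0, 0, 0, 0, 2, 0, 0],
    [0, 0, 0, 0, 2, 0, 2],
    [0, 0, 0, 0, 2, 2, 0],
    [0, 0, 0, 0, 2, 2, 2],
    [0, 0, 0, 2, 0, 0, 0],
    [0, 0, 0, 2, 0, 0, 2],
    [0, 0, 0, 2, 0, 2, 0],
    [0, 0, 0, 2, 0, 2, 2],
    [0, 0, 0, 2, 2, 0, 2],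
    [0, 0, 0, 2, 2, 2, 0],
    [0, 0, 2, 0, 0, 2, 0],
    [0, 0, 2, 0, 0, 2, 2],
    [0, 0, 2, 0, 2, 0, 0],
    [0, 0, 2, 0, 2, 0, 2],
    [0, 0, 2, 0, 2, 2, 2],
    [0, 0, 2, 2, 0, 0, 0],
    [0, 0, 2, 2, 0, 0, 2],
    [0, 0, 2, 2, 0, 2, 0],
    [0, 0, 2, 2, 2, 0, 0]]

/-- Words of the transversal. -/
def twList2 : List (List ℕ) :=
  [[0, 0, 2, 2, 2, 0, 2],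
    [0, 2, 0, 0, 0, 2, 0],
    [0, 2, 0, 0, 2, 0, 0],
    [0, 2, 0, 0, 2, 0, 2],
    [0, 2, 0, 0, 2, 2, 0],
    [0, 2, 0, 0, 2, 2, 2],
    [0, 2, 0, 2, 0, 0, 0],
    [0, 2, 0, 2, 0, 0, 2],
    [0, 2, 0, 2, 0, 2, 2],
    [0, 2, 0, 2, 2, 0, 0],
    [0, 2, 0, 2, 2, 0, 2],
    [0, 2, 0, 2, 2, 2, 0],
    [0, 2, 2, 0, 0, 0, 2],
    [0, 2, 2, 0, 0, 2, 0],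
    [0, 2, 2, 0, 0, 2, 2],
    [0, 2, 2, 0, 2, 0, 0],
    [0, 2, 2, 0, 2, 0, 2],
    [0, 2, 2, 0, 2, 2, 0],
    [0, 2, 2, 0, 2, 2, 2],
    [0, 2, 2, 2, 0, 0, 0],
    [0, 2, 2, 2, 0, 0, 2],
    [2, 0, 0, 0, 2, 0, 0],
    [2, 0, 0, 0, 2, 0, 2],
    [2, 0, 0, 2, 0, 0, 0],
    [2, 0, 0, 2, 0, 0, 2],
    [2, 0, 0, 2, 2, 0, 0],
    [2, 0, 0, 2, 2, 0, 2],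
    [2, 0, 0, 2, 2, 2, 0],
    [2, 0, 2, 0, 0, 0, 2],
    [2, 0, 2, 0, 0, 2, 0],
    [2, 0, 2, 0, 0, 2, 2],
    [2, 0, 2, 0, 2, 0, 0],
    [2, 0, 2, 0, 2, 2, 0],
    [2, 0, 2, 0, 2, 2, 2],
    [2, 0, 2, 2, 0, 0, 0],
    [2, 0, 2, 2, 0, 0, 2],
    [2, 0, 2, 2, 0, 2, 0],
    [2, 0, 2, 2, 0, 2, 2],
    [2, 0, 2, 2, 2, 0, 0],
    [2, 0, 2, 2, 2, 0, 2],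
    [2, 2, 0, 0, 0, 2, 0],
    [2, 2, 0, 0, 0, 2, 2],
    [2, 2, 0, 0, 2, 0, 0],
    [2, 2, 0, 0, 2, 0, 2],
    [2, 2, 0, 2, 0, 0, 0],
    [2, 2, 0, 2, 0, 0, 2],
    [2, 2, 0, 2, 0, 2, 0],
    [2, 2, 0, 2, 0, 2, 2],
    [2, 2, 0, 2, 2, 0, 0],
    [2, 2, 0, 2, 2, 0, 2],
    [2, 2, 0, 2, 2, 2, 0],
    [2, 2, 2, 0, 0, 0, 2],
    [2, 2, 2, 0, 0, 2, 0],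
    [2, 2, 2, 0, 0, 2, 2],
    [2, 2, 2, 0, 2, 0, 0],
    [2, 2, 2, 0, 2, 0, 2],
    [0, 0, 0, 0, 0, 0, 0, 2],
    [0, 0, 0, 0, 0, 0, 2, 0],
    [0, 0, 0, 0, 0, 0, 2, 2],
    [0, 0, 0, 0, 0, 2, 0, 0],
    [0, 0, 0, 0, 0, 2, 0, 2],
    [0, 0, 0, 0, 0, 2, 2, 0],
    [0, 0, 0, 0, 0, 2, 2, 2],
    [0, 0, 0, 0, 2, 0, 0, 0]]

/-- Words of the transversal. -/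
def twList3 : List (List ℕ) :=
  [[0, 0, 0, 0, 2, 0, 0, 2],
    [0, 0, 0, 0, 2, 0, 2, 0],
    [0, 0, 0, 0, 2, 0, 2, 2],
    [0, 0, 0, 0, 2, 2, 0, 0],
    [0, 0, 0, 0, 2, 2, 0, 2],
    [0, 0, 0, 0, 2, 2, 2, 0],
    [0, 0, 0, 2, 0, 0, 0, 2],
    [0, 0, 0, 2, 0, 0, 2, 0],
    [0, 0, 0, 2, 0, 0, 2, 2],
    [0, 0, 0, 2, 0, 2, 0, 2],
    [0, 0, 0, 2, 0, 2, 2, 0],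
    [0, 0, 0, 2, 0, 2, 2, 2],
    [0, 0, 0, 2, 2, 0, 2, 0],
    [0, 0, 0, 2, 2, 2, 0, 0],
    [0, 0, 0, 2, 2, 2, 0, 2],
    [0, 0, 2, 0, 0, 2, 0, 0],
    [0, 0, 2, 0, 0, 2, 0, 2],
    [0, 0, 2, 0, 0, 2, 2, 0],
    [0, 0, 2, 0, 0, 2, 2, 2],
    [0, 0, 2, 0, 2, 0, 0, 0],
    [0, 0, 2, 0, 2, 0, 0, 2],
    [0, 0, 2, 0, 2, 0, 2, 2],
    [0, 0, 2, 0, 2, 2, 2, 0],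
    [0, 0, 2, 2, 0, 0, 0, 2],
    [0, 0, 2, 2, 0, 0, 2, 2],
    [0, 0, 2, 2, 0, 2, 0, 0],
    [0, 0, 2, 2, 0, 2, 0, 2],
    [0, 0, 2, 2, 2, 0, 0, 0],
    [0, 0, 2, 2, 2, 0, 0, 2],
    [0, 0, 2, 2, 2, 0, 2, 0],
    [0, 0, 2, 2, 2, 0, 2, 2],
    [0, 2, 0, 0, 0, 2, 0, 0],
    [0, 2, 0, 0, 0, 2, 0, 2],
    [0, 2, 0, 0, 2, 0, 0, 0],
    [0, 2, 0, 0, 2, 0, 2, 0],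
    [0, 2, 0, 0, 2, 0, 2, 2],
    [0, 2, 0, 0, 2, 2, 0, 0],
    [0, 2, 0, 0, 2, 2, 0, 2],
    [0, 2, 0, 0, 2, 2, 2, 0],
    [0, 2, 0, 2, 0, 0, 0, 2],
    [0, 2, 0, 2, 0, 0, 2, 0],
    [0, 2, 0, 2, 0, 2, 2, 0],
    [0, 2, 0, 2, 0, 2, 2, 2],
    [0, 2, 0, 2, 2, 0, 0, 0],
    [0, 2, 0, 2, 2, 0, 0, 2],
    [0, 2, 0, 2, 2, 0, 2, 0],
    [0, 2, 0, 2, 2, 2, 0, 0],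
    [0, 2, 0, 2, 2, 2, 0, 2],
    [0, 2, 2, 0, 0, 0, 2, 0],
    [0, 2, 2, 0, 0, 0, 2, 2],
    [0, 2, 2, 0, 0, 2, 0, 0],
    [0, 2, 2, 0, 0, 2, 0, 2],
    [0, 2, 2, 0, 0, 2, 2, 0],
    [0, 2, 2, 0, 0, 2, 2, 2],
    [0, 2, 2, 0, 2, 0, 0, 0],
    [0, 2, 2, 0, 2, 0, 0, 2],
    [0, 2, 2, 0, 2, 0, 2, 0],
    [0, 2, 2, 0, 2, 0, 2, 2],
    [0, 2, 2, 0, 2, 2, 0, 0],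
    [0, 2, 2, 0, 2, 2, 0, 2],
    [0, 2, 2, 0, 2, 2, 2, 0],
    [0, 2, 2, 2, 0, 0, 0, 2],
    [0, 2, 2, 2, 0, 0, 2, 0],
    [0, 2, 2, 2, 0, 0, 2, 2]]

/-- Words of the transversal. -/
def twList4 : List (List ℕ) :=
  [[2, 0, 0, 0, 2, 0, 0, 0],
    [2, 0, 0, 0, 2, 0, 0, 2],
    [2, 0, 0, 0, 2, 0, 2, 0],
    [2, 0, 0, 0, 2, 0, 2, 2],
    [2, 0, 0, 2, 0, 0, 0, 2],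
    [2, 0, 0, 2, 0, 0, 2, 0],
    [2, 0, 0, 2, 0, 0, 2, 2],
    [2, 0, 0, 2, 2, 0, 0, 0],
    [2, 0, 0, 2, 2, 0, 0, 2],
    [2, 0, 0, 2, 2, 0, 2, 2],
    [2, 0, 0, 2, 2, 2, 0, 0],
    [2, 0, 0, 2, 2, 2, 0, 2],
    [2, 0, 2, 0, 0, 0, 2, 0],
    [2, 0, 2, 0, 0, 0, 2, 2],
    [2, 0, 2, 0, 0, 2, 0, 0],
    [2, 0, 2, 0, 0, 2, 2, 0],
    [2, 0, 2, 0, 0, 2, 2, 2],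
    [2, 0, 2, 0, 2, 0, 0, 0],
    [2, 0, 2, 0, 2, 2, 0, 0],
    [2, 0, 2, 0, 2, 2, 0, 2],
    [2, 0, 2, 2, 0, 0, 0, 2],
    [2, 0, 2, 2, 0, 0, 2, 2],
    [2, 0, 2, 2, 0, 2, 0, 0],
    [2, 0, 2, 2, 0, 2, 0, 2],
    [2, 0, 2, 2, 0, 2, 2, 0],
    [2, 0, 2, 2, 0, 2, 2, 2],
    [2, 0, 2, 2, 2, 0, 0, 2],
    [2, 0, 2, 2, 2, 0, 2, 2],
    [2, 2, 0, 0, 0, 2, 0, 0],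
    [2, 2, 0, 0, 0, 2, 0, 2],
    [2, 2, 0, 0, 0, 2, 2, 0],
    [2, 2, 0, 0, 2, 0, 0, 0],
    [2, 2, 0, 0, 2, 0, 0, 2],
    [2, 2, 0, 0, 2, 0, 2, 0],
    [2, 2, 0, 0, 2, 0, 2, 2],
    [2, 2, 0, 2, 0, 0, 0, 2],
    [2, 2, 0, 2, 0, 0, 2, 0],
    [2, 2, 0, 2, 0, 0, 2, 2],
    [2, 2, 0, 2, 0, 2, 2, 0],
    [2, 2, 0, 2, 0, 2, 2, 2],
    [2, 2, 0, 2, 2, 0, 0, 0],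
    [2, 2, 0, 2, 2, 0, 2, 2],
    [2, 2, 0, 2, 2, 2, 0, 0],
    [2, 2, 0, 2, 2, 2, 0, 2],
    [2, 2, 2, 0, 0, 0, 2, 0],
    [2, 2, 2, 0, 0, 0, 2, 2],
    [2, 2, 2, 0, 0, 2, 0, 0],
    [2, 2, 2, 0, 0, 2, 0, 2],
    [2, 2, 2, 0, 0, 2, 2, 0],
    [2, 2, 2, 0, 2, 0, 0, 2],
    [2, 2, 2, 0, 2, 0, 2, 0],
    [2, 2, 2, 0, 2, 0, 2, 2],
    [0, 0, 0, 0, 0, 0, 0, 2, 0],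
    [0, 0, 0, 0, 0, 0, 2, 0, 2],
    [0, 0, 0, 0, 0, 0, 2, 2, 2],
    [0, 0, 0, 0, 0, 2, 0, 0, 0],
    [0, 0, 0, 0, 0, 2, 0, 0, 2],
    [0, 0, 0, 0, 0, 2, 0, 2, 0],
    [0, 0, 0, 0, 0, 2, 0, 2, 2],
    [0, 0, 0, 0, 0, 2, 2, 0, 0],
    [0, 0, 0, 0, 0, 2, 2, 0, 2],
    [0, 0, 0, 0, 2, 0, 0, 0, 2],
    [0, 0, 0, 0, 2, 0, 0, 2, 2],
    [0, 0, 0, 0, 2, 0, 2, 0, 0]]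

/-- Words of the transversal. -/
def twList5 : List (List ℕ) :=
  [[0, 0, 0, 0, 2, 0, 2, 0, 2],
    [0, 0, 0, 0, 2, 0, 2, 2, 0],
    [0, 0, 0, 0, 2, 2, 0, 0, 0],
    [0, 0, 0, 0, 2, 2, 0, 0, 2],
    [0, 0, 0, 0, 2, 2, 0, 2, 0],
    [0, 0, 0, 0, 2, 2, 0, 2, 2],
    [0, 0, 0, 0, 2, 2, 2, 0, 0],
    [0, 0, 0, 2, 0, 0, 0, 2, 0],
    [0, 0, 0, 2, 0, 0, 2, 0, 0],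
    [0, 0, 0, 2, 0, 0, 2, 0, 2],
    [0, 0, 0, 2, 0, 0, 2, 2, 0],
    [0, 0, 0, 2, 0, 0, 2, 2, 2],
    [0, 0, 0, 2, 0, 2, 2, 0, 0],
    [0, 0, 0, 2, 0, 2, 2, 0, 2],
    [0, 0, 0, 2, 0, 2, 2, 2, 0],
    [0, 0, 0, 2, 2, 0, 2, 0, 0],
    [0, 0, 0, 2, 2, 0, 2, 0, 2],
    [0, 0, 0, 2, 2, 2, 0, 0, 2],
    [0, 0, 0, 2, 2, 2, 0, 2, 0],
    [0, 0, 2, 0, 0, 2, 0, 0, 0],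
    [0, 0, 2, 0, 0, 2, 0, 0, 2],
    [0, 0, 2, 0, 0, 2, 0, 2, 0],
    [0, 0, 2, 0, 0, 2, 0, 2, 2],
    [0, 0, 2, 0, 0, 2, 2, 0, 0],
    [0, 0, 2, 0, 0, 2, 2, 0, 2],
    [0, 0, 2, 0, 0, 2, 2, 2, 0],
    [0, 0, 2, 0, 2, 0, 0, 0, 2],
    [0, 0, 2, 0, 2, 0, 0, 2, 2],
    [0, 0, 2, 0, 2, 0, 2, 2, 0],
    [0, 0, 2, 0, 2, 0, 2, 2, 2],
    [0, 0, 2, 0, 2, 2, 2, 0, 0],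
    [0, 0, 2, 0, 2, 2, 2, 0, 2],
    [0, 0, 2, 2, 0, 0, 0, 2, 0],
    [0, 0, 2, 2, 0, 0, 0, 2, 2],
    [0, 0, 2, 2, 0, 0, 2, 2, 0],
    [0, 0, 2, 2, 0, 0, 2, 2, 2],
    [0, 0, 2, 2, 0, 2, 0, 0, 2],
    [0, 0, 2, 2, 0, 2, 0, 2, 0],
    [0, 0, 2, 2, 0, 2, 0, 2, 2],
    [0, 0, 2, 2, 2, 0, 0, 0, 2],
    [0, 0, 2, 2, 2, 0, 0, 2, 0],
    [0, 0, 2, 2, 2, 0, 0, 2, 2],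
    [0, 0, 2, 2, 2, 0, 2, 0, 0],
    [0, 0, 2, 2, 2, 0, 2, 0, 2],
    [0, 0, 2, 2, 2, 0, 2, 2, 2],
    [0, 2, 0, 0, 0, 2, 0, 0, 0],
    [0, 2, 0, 0, 0, 2, 0, 2, 0],
    [0, 2, 0, 0, 0, 2, 0, 2, 2],
    [0, 2, 0, 0, 2, 0, 2, 0, 0],
    [0, 2, 0, 0, 2, 0, 2, 0, 2],
    [0, 2, 0, 0, 2, 0, 2, 2, 0],
    [0, 2, 0, 0, 2, 2, 0, 0, 0],
    [0, 2, 0, 0, 2, 2, 0, 0, 2],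
    [0, 2, 0, 0, 2, 2, 0, 2, 0],
    [0, 2, 0, 0, 2, 2, 0, 2, 2],
    [0, 2, 0, 0, 2, 2, 2, 0, 2],
    [0, 2, 0, 2, 0, 0, 0, 2, 0],
    [0, 2, 0, 2, 0, 0, 2, 0, 0],
    [0, 2, 0, 2, 0, 0, 2, 0, 2],
    [0, 2, 0, 2, 0, 2, 2, 0, 0],
    [0, 2, 0, 2, 0, 2, 2, 2, 0],
    [0, 2, 0, 2, 2, 0, 0, 0, 2],
    [0, 2, 0, 2, 2, 0, 0, 2, 0],
    [0, 2, 0, 2, 2, 0, 0, 2, 2]]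

/-- Words of the transversal. -/
def twList6 : List (List ℕ) :=
  [[0, 2, 0, 2, 2, 0, 2, 0, 0],
    [0, 2, 0, 2, 2, 0, 2, 0, 2],
    [0, 2, 0, 2, 2, 2, 0, 0, 0],
    [0, 2, 0, 2, 2, 2, 0, 2, 0],
    [0, 2, 2, 0, 0, 0, 2, 0, 0],
    [0, 2, 2, 0, 0, 0, 2, 2, 0],
    [0, 2, 2, 0, 0, 2, 0, 0, 0],
    [0, 2, 2, 0, 0, 2, 0, 2, 0],
    [0, 2, 2, 0, 0, 2, 2, 2, 0],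
    [0, 2, 2, 0, 2, 0, 0, 0, 2],
    [0, 2, 2, 0, 2, 0, 0, 2, 0],
    [0, 2, 2, 0, 2, 0, 0, 2, 2],
    [0, 2, 2, 0, 2, 0, 2, 0, 0],
    [0, 2, 2, 0, 2, 0, 2, 2, 2],
    [0, 2, 2, 0, 2, 2, 0, 0, 0],
    [0, 2, 2, 0, 2, 2, 0, 0, 2],
    [0, 2, 2, 0, 2, 2, 0, 2, 0],
    [0, 2, 2, 0, 2, 2, 0, 2, 2],
    [0, 2, 2, 0, 2, 2, 2, 0, 2],
    [0, 2, 2, 2, 0, 0, 0, 2, 0],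
    [0, 2, 2, 2, 0, 0, 0, 2, 2],
    [0, 2, 2, 2, 0, 0, 2, 0, 2],
    [0, 2, 2, 2, 0, 0, 2, 2, 0],
    [0, 2, 2, 2, 0, 0, 2, 2, 2],
    [2, 0, 0, 0, 2, 0, 0, 0, 2],
    [2, 0, 0, 0, 2, 0, 0, 2, 0],
    [2, 0, 0, 0, 2, 0, 0, 2, 2],
    [2, 0, 0, 0, 2, 0, 2, 0, 2],
    [2, 0, 0, 0, 2, 0, 2, 2, 0],
    [2, 0, 0, 0, 2, 0, 2, 2, 2],
    [2, 0, 0, 2, 0, 0, 0, 2, 0],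
    [2, 0, 0, 2, 0, 0, 2, 0, 0],
    [2, 0, 0, 2, 0, 0, 2, 0, 2],
    [2, 0, 0, 2, 0, 0, 2, 2, 2],
    [2, 0, 0, 2, 2, 0, 0, 0, 2],
    [2, 0, 0, 2, 2, 0, 0, 2, 0],
    [2, 0, 0, 2, 2, 0, 0, 2, 2],
    [2, 0, 0, 2, 2, 0, 2, 2, 0],
    [2, 0, 0, 2, 2, 0, 2, 2, 2],
    [2, 0, 0, 2, 2, 2, 0, 0, 0],
    [2, 0, 0, 2, 2, 2, 0, 0, 2],
    [2, 0, 0, 2, 2, 2, 0, 2, 2],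
    [2, 0, 2, 0, 0, 0, 2, 0, 0],
    [2, 0, 2, 0, 0, 0, 2, 0, 2],
    [2, 0, 2, 0, 0, 0, 2, 2, 0],
    [2, 0, 2, 0, 0, 0, 2, 2, 2],
    [2, 0, 2, 0, 0, 2, 0, 0, 0],
    [2, 0, 2, 0, 0, 2, 2, 0, 0],
    [2, 0, 2, 0, 0, 2, 2, 0, 2],
    [2, 0, 2, 0, 0, 2, 2, 2, 0],
    [2, 0, 2, 0, 2, 0, 0, 0, 2],
    [2, 0, 2, 0, 2, 2, 0, 0, 0],
    [2, 0, 2, 0, 2, 2, 0, 2, 0],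
    [2, 0, 2, 0, 2, 2, 0, 2, 2],
    [2, 0, 2, 2, 0, 0, 0, 2, 0],
    [2, 0, 2, 2, 0, 0, 2, 2, 0],
    [2, 0, 2, 2, 0, 0, 2, 2, 2],
    [2, 0, 2, 2, 0, 2, 0, 0, 2],
    [2, 0, 2, 2, 0, 2, 0, 2, 0],
    [2, 0, 2, 2, 0, 2, 2, 0, 0],
    [2, 0, 2, 2, 0, 2, 2, 2, 0],
    [2, 0, 2, 2, 2, 0, 0, 2, 0],
    [2, 0, 2, 2, 2, 0, 0, 2, 2],
    [2, 0, 2, 2, 2, 0, 2, 2, 0]]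

/-- Words of the transversal. -/
def twList7 : List (List ℕ) :=
  [[2, 0, 2, 2, 2, 0, 2, 2, 2],
    [2, 2, 0, 0, 0, 2, 0, 0, 0],
    [2, 2, 0, 0, 0, 2, 0, 0, 2],
    [2, 2, 0, 0, 0, 2, 0, 2, 0],
    [2, 2, 0, 0, 0, 2, 0, 2, 2],
    [2, 2, 0, 0, 0, 2, 2, 0, 0],
    [2, 2, 0, 0, 0, 2, 2, 0, 2],
    [2, 2, 0, 0, 2, 0, 0, 0, 2],
    [2, 2, 0, 0, 2, 0, 0, 2, 0],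
    [2, 2, 0, 0, 2, 0, 0, 2, 2],
    [2, 2, 0, 0, 2, 0, 2, 0, 0],
    [2, 2, 0, 0, 2, 0, 2, 0, 2],
    [2, 2, 0, 0, 2, 0, 2, 2, 0],
    [2, 2, 0, 0, 2, 0, 2, 2, 2],
    [2, 2, 0, 2, 0, 0, 2, 0, 0],
    [2, 2, 0, 2, 0, 0, 2, 0, 2],
    [2, 2, 0, 2, 0, 0, 2, 2, 0],
    [2, 2, 0, 2, 0, 2, 2, 0, 0],
    [2, 2, 0, 2, 0, 2, 2, 0, 2],
    [2, 2, 0, 2, 0, 2, 2, 2, 0],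
    [2, 2, 0, 2, 2, 0, 2, 2, 0],
    [2, 2, 0, 2, 2, 0, 2, 2, 2],
    [2, 2, 0, 2, 2, 2, 0, 0, 2],
    [2, 2, 2, 0, 0, 0, 2, 0, 0],
    [2, 2, 2, 0, 0, 0, 2, 2, 0],
    [2, 2, 2, 0, 0, 2, 0, 0, 0],
    [2, 2, 2, 0, 0, 2, 0, 0, 2],
    [2, 2, 2, 0, 0, 2, 0, 2, 0],
    [2, 2, 2, 0, 0, 2, 0, 2, 2],
    [2, 2, 2, 0, 0, 2, 2, 0, 0],
    [2, 2, 2, 0, 0, 2, 2, 0, 2],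
    [2, 2, 2, 0, 2, 0, 0, 2, 0],
    [2, 2, 2, 0, 2, 0, 2, 2, 0],
    [2, 2, 2, 0, 2, 0, 2, 2, 2],
    [0, 0, 0, 0, 0, 0, 0, 2, 0, 0],
    [0, 0, 0, 0, 0, 0, 2, 0, 2, 0],
    [0, 0, 0, 0, 0, 0, 2, 2, 2, 0],
    [0, 0, 0, 0, 0, 2, 0, 0, 0, 2],
    [0, 0, 0, 0, 0, 2, 0, 0, 2, 0],
    [0, 0, 0, 0, 0, 2, 0, 0, 2, 2],
    [0, 0, 0, 0, 0, 2, 0, 2, 0, 0],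
    [0, 0, 0, 0, 0, 2, 0, 2, 2, 2],
    [0, 0, 0, 0, 0, 2, 2, 0, 0, 2],
    [0, 0, 0, 0, 0, 2, 2, 0, 2, 0],
    [0, 0, 0, 0, 0, 2, 2, 0, 2, 2],
    [0, 0, 0, 0, 2, 0, 0, 2, 2, 0],
    [0, 0, 0, 0, 2, 0, 0, 2, 2, 2],
    [0, 0, 0, 0, 2, 0, 2, 0, 0, 0],
    [0, 0, 0, 0, 2, 0, 2, 0, 0, 2],
    [0, 0, 0, 0, 2, 0, 2, 0, 2, 2],
    [0, 0, 0, 0, 2, 0, 2, 2, 0, 0],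
    [0, 0, 0, 0, 2, 2, 0, 0, 0, 2],
    [0, 0, 0, 0, 2, 2, 0, 0, 2, 0],
    [0, 0, 0, 0, 2, 2, 0, 2, 0, 2],
    [0, 0, 0, 0, 2, 2, 0, 2, 2, 0],
    [0, 0, 0, 0, 2, 2, 2, 0, 0, 2],
    [0, 0, 0, 2, 0, 0, 2, 0, 2, 0],
    [0, 0, 0, 2, 0, 0, 2, 0, 2, 2],
    [0, 0, 0, 2, 0, 0, 2, 2, 0, 2],
    [0, 0, 0, 2, 0, 0, 2, 2, 2, 0],
    [0, 0, 0, 2, 0, 2, 2, 0, 0, 0],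
    [0, 0, 0, 2, 0, 2, 2, 0, 0, 2],
    [0, 0, 0, 2, 0, 2, 2, 0, 2, 0],
    [0, 0, 0, 2, 0, 2, 2, 2, 0, 2]]

/-- Words of the transversal. -/
def twList8 : List (List ℕ) :=
  [[0, 0, 0, 2, 2, 0, 2, 0, 0, 0],
    [0, 0, 0, 2, 2, 0, 2, 0, 0, 2],
    [0, 0, 0, 2, 2, 0, 2, 0, 2, 0],
    [0, 0, 0, 2, 2, 2, 0, 0, 2, 2],
    [0, 0, 0, 2, 2, 2, 0, 2, 0, 0],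
    [0, 0, 0, 2, 2, 2, 0, 2, 0, 2],
    [0, 0, 2, 0, 0, 2, 0, 0, 0, 2],
    [0, 0, 2, 0, 0, 2, 0, 0, 2, 0],
    [0, 0, 2, 0, 0, 2, 0, 2, 0, 0],
    [0, 0, 2, 0, 0, 2, 0, 2, 0, 2],
    [0, 0, 2, 0, 0, 2, 0, 2, 2, 0],
    [0, 0, 2, 0, 0, 2, 2, 0, 0, 0],
    [0, 0, 2, 0, 0, 2, 2, 0, 0, 2],
    [0, 0, 2, 0, 0, 2, 2, 0, 2, 0],
    [0, 0, 2, 0, 0, 2, 2, 2, 0, 2],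
    [0, 0, 2, 0, 2, 0, 0, 0, 2, 0],
    [0, 0, 2, 0, 2, 0, 0, 0, 2, 2],
    [0, 0, 2, 0, 2, 0, 0, 2, 2, 2],
    [0, 0, 2, 0, 2, 0, 2, 2, 0, 0],
    [0, 0, 2, 0, 2, 0, 2, 2, 0, 2],
    [0, 0, 2, 0, 2, 2, 2, 0, 0, 0],
    [0, 0, 2, 0, 2, 2, 2, 0, 0, 2],
    [0, 0, 2, 0, 2, 2, 2, 0, 2, 0],
    [0, 0, 2, 2, 0, 0, 0, 2, 0, 0],
    [0, 0, 2, 2, 0, 0, 0, 2, 0, 2],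
    [0, 0, 2, 2, 0, 0, 0, 2, 2, 0],
    [0, 0, 2, 2, 0, 0, 0, 2, 2, 2],
    [0, 0, 2, 2, 0, 0, 2, 2, 0, 0],
    [0, 0, 2, 2, 0, 0, 2, 2, 2, 0],
    [0, 0, 2, 2, 0, 2, 0, 0, 2, 0],
    [0, 0, 2, 2, 0, 2, 0, 0, 2, 2],
    [0, 0, 2, 2, 0, 2, 0, 2, 0, 0],
    [0, 0, 2, 2, 0, 2, 0, 2, 2, 0],
    [0, 0, 2, 2, 0, 2, 0, 2, 2, 2],
    [0, 0, 2, 2, 2, 0, 0, 0, 2, 0],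
    [0, 0, 2, 2, 2, 0, 0, 0, 2, 2],
    [0, 0, 2, 2, 2, 0, 0, 2, 0, 0],
    [0, 0, 2, 2, 2, 0, 0, 2, 0, 2],
    [0, 0, 2, 2, 2, 0, 0, 2, 2, 2],
    [0, 0, 2, 2, 2, 0, 2, 0, 0, 2],
    [0, 0, 2, 2, 2, 0, 2, 0, 2, 0],
    [0, 0, 2, 2, 2, 0, 2, 2, 2, 0],
    [0, 2, 0, 0, 0, 2, 0, 0, 0, 2],
    [0, 2, 0, 0, 0, 2, 0, 2, 0, 0],
    [0, 2, 0, 0, 0, 2, 0, 2, 2, 0],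
    [0, 2, 0, 0, 2, 0, 2, 0, 0, 0],
    [0, 2, 0, 0, 2, 0, 2, 0, 2, 2],
    [0, 2, 0, 0, 2, 0, 2, 2, 0, 0],
    [0, 2, 0, 0, 2, 0, 2, 2, 0, 2],
    [0, 2, 0, 0, 2, 2, 0, 0, 0, 2],
    [0, 2, 0, 0, 2, 2, 0, 0, 2, 0],
    [0, 2, 0, 0, 2, 2, 0, 2, 2, 0],
    [0, 2, 0, 0, 2, 2, 0, 2, 2, 2],
    [0, 2, 0, 0, 2, 2, 2, 0, 2, 2],
    [0, 2, 0, 2, 0, 0, 0, 2, 0, 0],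
    [0, 2, 0, 2, 0, 0, 0, 2, 0, 2],
    [0, 2, 0, 2, 0, 0, 2, 0, 0, 0],
    [0, 2, 0, 2, 0, 0, 2, 0, 2, 0],
    [0, 2, 0, 2, 0, 0, 2, 0, 2, 2],
    [0, 2, 0, 2, 0, 2, 2, 0, 0, 0],
    [0, 2, 0, 2, 0, 2, 2, 0, 0, 2],
    [0, 2, 0, 2, 0, 2, 2, 2, 0, 2],
    [0, 2, 0, 2, 2, 0, 0, 0, 2, 0],
    [0, 2, 0, 2, 2, 0, 0, 0, 2, 2]]

/-- Words of the transversal. -/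
def twList9 : List (List ℕ) :=
  [[0, 2, 0, 2, 2, 0, 0, 2, 0, 0],
    [0, 2, 0, 2, 2, 0, 0, 2, 0, 2],
    [0, 2, 0, 2, 2, 0, 0, 2, 2, 0],
    [0, 2, 0, 2, 2, 0, 0, 2, 2, 2],
    [0, 2, 0, 2, 2, 0, 2, 0, 0, 0],
    [0, 2, 0, 2, 2, 0, 2, 0, 2, 2],
    [0, 2, 0, 2, 2, 2, 0, 2, 0, 0],
    [0, 2, 0, 2, 2, 2, 0, 2, 0, 2],
    [0, 2, 2, 0, 0, 0, 2, 0, 0, 2],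
    [0, 2, 2, 0, 0, 0, 2, 2, 0, 0],
    [0, 2, 2, 0, 0, 2, 0, 2, 0, 2],
    [0, 2, 2, 0, 0, 2, 2, 2, 0, 0],
    [0, 2, 2, 0, 0, 2, 2, 2, 0, 2],
    [0, 2, 2, 0, 2, 0, 0, 0, 2, 0],
    [0, 2, 2, 0, 2, 0, 0, 0, 2, 2],
    [0, 2, 2, 0, 2, 0, 0, 2, 0, 0],
    [0, 2, 2, 0, 2, 0, 0, 2, 0, 2],
    [0, 2, 2, 0, 2, 0, 0, 2, 2, 2],
    [0, 2, 2, 0, 2, 0, 2, 0, 0, 0],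
    [0, 2, 2, 0, 2, 0, 2, 2, 2, 0],
    [0, 2, 2, 0, 2, 2, 0, 0, 2, 2],
    [0, 2, 2, 0, 2, 2, 0, 2, 0, 0],
    [0, 2, 2, 0, 2, 2, 0, 2, 0, 2],
    [0, 2, 2, 0, 2, 2, 0, 2, 2, 0],
    [0, 2, 2, 0, 2, 2, 0, 2, 2, 2],
    [0, 2, 2, 0, 2, 2, 2, 0, 2, 0],
    [0, 2, 2, 0, 2, 2, 2, 0, 2, 2],
    [0, 2, 2, 2, 0, 0, 0, 2, 0, 0],
    [0, 2, 2, 2, 0, 0, 0, 2, 0, 2],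
    [0, 2, 2, 2, 0, 0, 2, 0, 2, 0],
    [0, 2, 2, 2, 0, 0, 2, 0, 2, 2],
    [0, 2, 2, 2, 0, 0, 2, 2, 0, 0],
    [0, 2, 2, 2, 0, 0, 2, 2, 0, 2],
    [0, 2, 2, 2, 0, 0, 2, 2, 2, 0],
    [2, 0, 0, 0, 2, 0, 0, 0, 2, 0],
    [2, 0, 0, 0, 2, 0, 0, 0, 2, 2],
    [2, 0, 0, 0, 2, 0, 0, 2, 0, 2],
    [2, 0, 0, 0, 2, 0, 0, 2, 2, 2],
    [2, 0, 0, 0, 2, 0, 2, 0, 2, 2],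
    [2, 0, 0, 2, 0, 0, 0, 2, 0, 0],
    [2, 0, 0, 2, 0, 0, 0, 2, 0, 2],
    [2, 0, 0, 2, 0, 0, 2, 0, 0, 2],
    [2, 0, 0, 2, 0, 0, 2, 0, 2, 2],
    [2, 0, 0, 2, 2, 0, 0, 0, 2, 0],
    [2, 0, 0, 2, 2, 0, 0, 0, 2, 2],
    [2, 0, 0, 2, 2, 0, 0, 2, 0, 0],
    [2, 0, 0, 2, 2, 0, 0, 2, 0, 2],
    [2, 0, 0, 2, 2, 0, 2, 2, 0, 2],
    [2, 0, 0, 2, 2, 0, 2, 2, 2, 0],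
    [2, 0, 0, 2, 2, 2, 0, 0, 0, 2],
    [2, 0, 2, 0, 0, 0, 2, 0, 0, 0],
    [2, 0, 2, 0, 0, 0, 2, 0, 0, 2],
    [2, 0, 2, 0, 0, 0, 2, 0, 2, 2],
    [2, 0, 2, 0, 0, 0, 2, 2, 0, 0],
    [2, 0, 2, 0, 0, 0, 2, 2, 0, 2],
    [2, 0, 2, 0, 0, 0, 2, 2, 2, 0],
    [2, 0, 2, 0, 0, 2, 0, 0, 0, 2],
    [2, 0, 2, 0, 0, 2, 2, 0, 0, 2],
    [2, 0, 2, 0, 0, 2, 2, 0, 2, 2],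
    [2, 0, 2, 0, 0, 2, 2, 2, 0, 0],
    [2, 0, 2, 0, 0, 2, 2, 2, 0, 2],
    [2, 0, 2, 0, 2, 0, 0, 0, 2, 0],
    [2, 0, 2, 0, 2, 0, 0, 0, 2, 2],
    [2, 0, 2, 0, 2, 2, 0, 0, 0, 2]]

/-- Words of the transversal. -/
def twList10 : List (List ℕ) :=
  [[2, 0, 2, 0, 2, 2, 0, 2, 0, 0],
    [2, 0, 2, 0, 2, 2, 0, 2, 0, 2],
    [2, 0, 2, 0, 2, 2, 0, 2, 2, 0],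
    [2, 0, 2, 0, 2, 2, 0, 2, 2, 2],
    [2, 0, 2, 2, 0, 0, 0, 2, 0, 0],
    [2, 0, 2, 2, 0, 0, 0, 2, 0, 2],
    [2, 0, 2, 2, 0, 0, 2, 2, 0, 0],
    [2, 0, 2, 2, 0, 2, 0, 0, 2, 0],
    [2, 0, 2, 2, 0, 2, 0, 0, 2, 2],
    [2, 0, 2, 2, 0, 2, 0, 2, 0, 0],
    [2, 0, 2, 2, 0, 2, 2, 0, 0, 0],
    [2, 0, 2, 2, 0, 2, 2, 0, 0, 2],
    [2, 0, 2, 2, 0, 2, 2, 2, 0, 0],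
    [2, 0, 2, 2, 2, 0, 0, 2, 0, 0],
    [2, 0, 2, 2, 2, 0, 0, 2, 0, 2],
    [2, 0, 2, 2, 2, 0, 0, 2, 2, 0],
    [2, 0, 2, 2, 2, 0, 2, 2, 0, 0],
    [2, 0, 2, 2, 2, 0, 2, 2, 2, 0],
    [2, 2, 0, 0, 0, 2, 0, 0, 0, 2],
    [2, 2, 0, 0, 0, 2, 0, 0, 2, 0],
    [2, 2, 0, 0, 0, 2, 0, 0, 2, 2],
    [2, 2, 0, 0, 0, 2, 0, 2, 0, 0],
    [2, 2, 0, 0, 0, 2, 0, 2, 0, 2],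
    [2, 2, 0, 0, 0, 2, 0, 2, 2, 0],
    [2, 2, 0, 0, 0, 2, 0, 2, 2, 2],
    [2, 2, 0, 0, 0, 2, 2, 0, 0, 2],
    [2, 2, 0, 0, 0, 2, 2, 0, 2, 0],
    [2, 2, 0, 0, 2, 0, 0, 0, 2, 2],
    [2, 2, 0, 0, 2, 0, 0, 2, 0, 0],
    [2, 2, 0, 0, 2, 0, 0, 2, 0, 2],
    [2, 2, 0, 0, 2, 0, 0, 2, 2, 0],
    [2, 2, 0, 0, 2, 0, 2, 0, 0, 2],
    [2, 2, 0, 0, 2, 0, 2, 0, 2, 2],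
    [2, 2, 0, 0, 2, 0, 2, 2, 0, 0],
    [2, 2, 0, 2, 0, 0, 2, 0, 0, 0],
    [2, 2, 0, 2, 0, 0, 2, 0, 2, 0],
    [2, 2, 0, 2, 0, 0, 2, 2, 0, 0],
    [2, 2, 0, 2, 0, 0, 2, 2, 0, 2],
    [2, 2, 0, 2, 0, 2, 2, 0, 0, 0],
    [2, 2, 0, 2, 0, 2, 2, 0, 0, 2],
    [2, 2, 0, 2, 2, 0, 2, 2, 0, 0],
    [2, 2, 0, 2, 2, 0, 2, 2, 2, 0],
    [2, 2, 0, 2, 2, 2, 0, 0, 2, 0],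
    [2, 2, 0, 2, 2, 2, 0, 0, 2, 2],
    [2, 2, 2, 0, 0, 0, 2, 0, 0, 0],
    [2, 2, 2, 0, 0, 0, 2, 0, 0, 2],
    [2, 2, 2, 0, 0, 0, 2, 2, 0, 2],
    [2, 2, 2, 0, 0, 2, 0, 0, 0, 2],
    [2, 2, 2, 0, 0, 2, 0, 0, 2, 0],
    [2, 2, 2, 0, 0, 2, 0, 0, 2, 2],
    [2, 2, 2, 0, 0, 2, 0, 2, 2, 0],
    [2, 2, 2, 0, 0, 2, 0, 2, 2, 2],
    [2, 2, 2, 0, 0, 2, 2, 0, 0, 0],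
    [2, 2, 2, 0, 0, 2, 2, 0, 0, 2],
    [2, 2, 2, 0, 0, 2, 2, 0, 2, 0],
    [2, 2, 2, 0, 0, 2, 2, 0, 2, 2],
    [2, 2, 2, 0, 2, 0, 0, 2, 0, 0],
    [2, 2, 2, 0, 2, 0, 0, 2, 0, 2],
    [2, 2, 2, 0, 2, 0, 2, 2, 0, 0],
    [2, 2, 2, 0, 2, 0, 2, 2, 0, 2],
    [2, 2, 2, 0, 2, 0, 2, 2, 2, 0],
    [0, 0, 0, 0, 0, 0, 0, 2, 0, 0, 0],
    [0, 0, 0, 0, 0, 0, 2, 0, 2, 0, 0],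
    [0, 0, 0, 0, 0, 0, 2, 2, 2, 0, 0]]

/-- Words of the transversal. -/
def twList11 : List (List ℕ) :=
  [[0, 0, 0, 0, 0, 2, 0, 0, 0, 2, 0],
    [0, 0, 0, 0, 0, 2, 0, 0, 2, 0, 0],
    [0, 0, 0, 0, 0, 2, 0, 0, 2, 0, 2],
    [0, 0, 0, 0, 0, 2, 0, 0, 2, 2, 0],
    [0, 0, 0, 0, 0, 2, 0, 2, 0, 0, 2],
    [0, 0, 0, 0, 0, 2, 0, 2, 2, 2, 0],
    [0, 0, 0, 0, 0, 2, 2, 0, 0, 2, 0],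
    [0, 0, 0, 0, 0, 2, 2, 0, 0, 2, 2],
    [0, 0, 0, 0, 0, 2, 2, 0, 2, 0, 0],
    [0, 0, 0, 0, 0, 2, 2, 0, 2, 0, 2],
    [0, 0, 0, 0, 0, 2, 2, 0, 2, 2, 0],
    [0, 0, 0, 0, 0, 2, 2, 0, 2, 2, 2],
    [0, 0, 0, 0, 2, 0, 0, 2, 2, 0, 0],
    [0, 0, 0, 0, 2, 0, 0, 2, 2, 2, 0],
    [0, 0, 0, 0, 2, 0, 2, 0, 0, 0, 2],
    [0, 0, 0, 0, 2, 0, 2, 0, 2, 2, 0],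
    [0, 0, 0, 0, 2, 2, 0, 0, 0, 2, 0],
    [0, 0, 0, 0, 2, 2, 0, 2, 0, 2, 2],
    [0, 0, 0, 0, 2, 2, 2, 0, 0, 2, 0],
    [0, 0, 0, 0, 2, 2, 2, 0, 0, 2, 2],
    [0, 0, 0, 2, 0, 0, 2, 0, 2, 0, 0],
    [0, 0, 0, 2, 0, 0, 2, 0, 2, 0, 2],
    [0, 0, 0, 2, 0, 0, 2, 2, 0, 2, 2],
    [0, 0, 0, 2, 0, 0, 2, 2, 2, 0, 0],
    [0, 0, 0, 2, 0, 2, 2, 0, 0, 2, 0],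
    [0, 0, 0, 2, 0, 2, 2, 0, 2, 0, 0],
    [0, 0, 0, 2, 0, 2, 2, 0, 2, 0, 2],
    [0, 0, 0, 2, 0, 2, 2, 2, 0, 2, 0],
    [0, 0, 0, 2, 0, 2, 2, 2, 0, 2, 2],
    [0, 0, 0, 2, 2, 0, 2, 0, 0, 0, 2],
    [0, 0, 0, 2, 2, 2, 0, 0, 2, 2, 0],
    [0, 0, 0, 2, 2, 2, 0, 0, 2, 2, 2],
    [0, 0, 0, 2, 2, 2, 0, 2, 0, 0, 2],
    [0, 0, 0, 2, 2, 2, 0, 2, 0, 2, 2],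
    [0, 0, 2, 0, 0, 2, 0, 0, 0, 2, 0],
    [0, 0, 2, 0, 0, 2, 0, 0, 0, 2, 2],
    [0, 0, 2, 0, 0, 2, 0, 0, 2, 0, 2],
    [0, 0, 2, 0, 0, 2, 0, 2, 0, 0, 2],
    [0, 0, 2, 0, 0, 2, 0, 2, 0, 2, 2],
    [0, 0, 2, 0, 0, 2, 2, 0, 0, 2, 0],
    [0, 0, 2, 0, 0, 2, 2, 0, 0, 2, 2],
    [0, 0, 2, 0, 0, 2, 2, 0, 2, 0, 2],
    [0, 0, 2, 0, 0, 2, 2, 2, 0, 2, 0],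
    [0, 0, 2, 0, 2, 0, 0, 0, 2, 0, 0],
    [0, 0, 2, 0, 2, 0, 0, 0, 2, 0, 2],
    [0, 0, 2, 0, 2, 0, 0, 0, 2, 2, 2],
    [0, 0, 2, 0, 2, 0, 0, 2, 2, 2, 0],
    [0, 0, 2, 0, 2, 0, 2, 2, 0, 2, 0],
    [0, 0, 2, 0, 2, 2, 2, 0, 0, 0, 2],
    [0, 0, 2, 0, 2, 2, 2, 0, 2, 0, 0],
    [0, 0, 2, 2, 0, 0, 0, 2, 0, 0, 0],
    [0, 0, 2, 2, 0, 0, 0, 2, 0, 0, 2],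
    [0, 0, 2, 2, 0, 0, 0, 2, 0, 2, 0],
    [0, 0, 2, 2, 0, 0, 0, 2, 2, 0, 2],
    [0, 0, 2, 2, 0, 0, 0, 2, 2, 2, 0],
    [0, 0, 2, 2, 0, 0, 2, 2, 0, 0, 2],
    [0, 0, 2, 2, 0, 0, 2, 2, 2, 0, 2],
    [0, 0, 2, 2, 0, 2, 0, 0, 2, 2, 0],
    [0, 0, 2, 2, 0, 2, 0, 2, 0, 0, 2],
    [0, 0, 2, 2, 2, 0, 0, 0, 2, 0, 0],
    [0, 0, 2, 2, 2, 0, 0, 0, 2, 0, 2],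
    [0, 0, 2, 2, 2, 0, 0, 2, 0, 0, 2],
    [0, 0, 2, 2, 2, 0, 0, 2, 0, 2, 2],
    [0, 0, 2, 2, 2, 0, 0, 2, 2, 2, 0]]

/-- Words of the transversal. -/
def twList12 : List (List ℕ) :=
  [[0, 0, 2, 2, 2, 0, 2, 0, 0, 2, 0],
    [0, 0, 2, 2, 2, 0, 2, 0, 0, 2, 2],
    [0, 0, 2, 2, 2, 0, 2, 0, 2, 0, 0],
    [0, 2, 0, 0, 0, 2, 0, 0, 0, 2, 0],
    [0, 2, 0, 0, 0, 2, 0, 0, 0, 2, 2],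
    [0, 2, 0, 0, 0, 2, 0, 2, 0, 0, 0],
    [0, 2, 0, 0, 0, 2, 0, 2, 2, 0, 0],
    [0, 2, 0, 0, 2, 0, 2, 0, 2, 2, 0],
    [0, 2, 0, 0, 2, 0, 2, 0, 2, 2, 2],
    [0, 2, 0, 0, 2, 0, 2, 2, 0, 0, 0],
    [0, 2, 0, 0, 2, 0, 2, 2, 0, 2, 0],
    [0, 2, 0, 0, 2, 2, 0, 2, 2, 0, 0],
    [0, 2, 0, 0, 2, 2, 0, 2, 2, 0, 2],
    [0, 2, 0, 0, 2, 2, 2, 0, 2, 2, 0],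
    [0, 2, 0, 2, 0, 0, 0, 2, 0, 0, 2],
    [0, 2, 0, 2, 0, 0, 2, 0, 0, 0, 2],
    [0, 2, 0, 2, 0, 0, 2, 0, 2, 0, 0],
    [0, 2, 0, 2, 0, 0, 2, 0, 2, 0, 2],
    [0, 2, 0, 2, 0, 2, 2, 0, 0, 2, 0],
    [0, 2, 0, 2, 0, 2, 2, 0, 0, 2, 2],
    [0, 2, 0, 2, 0, 2, 2, 2, 0, 2, 2],
    [0, 2, 0, 2, 2, 0, 0, 0, 2, 0, 0],
    [0, 2, 0, 2, 2, 0, 0, 0, 2, 2, 2],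
    [0, 2, 0, 2, 2, 0, 0, 2, 0, 0, 0],
    [0, 2, 0, 2, 2, 0, 0, 2, 0, 0, 2],
    [0, 2, 0, 2, 2, 0, 0, 2, 0, 2, 0],
    [0, 2, 0, 2, 2, 0, 0, 2, 0, 2, 2],
    [0, 2, 0, 2, 2, 0, 0, 2, 2, 0, 2],
    [0, 2, 0, 2, 2, 0, 2, 0, 0, 0, 2],
    [0, 2, 0, 2, 2, 0, 2, 0, 2, 2, 0],
    [0, 2, 0, 2, 2, 0, 2, 0, 2, 2, 2],
    [0, 2, 0, 2, 2, 2, 0, 2, 0, 0, 0],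
    [0, 2, 0, 2, 2, 2, 0, 2, 0, 0, 2],
    [0, 2, 0, 2, 2, 2, 0, 2, 0, 2, 2],
    [0, 2, 2, 0, 0, 0, 2, 0, 0, 2, 0],
    [0, 2, 2, 0, 0, 0, 2, 0, 0, 2, 2],
    [0, 2, 2, 0, 0, 0, 2, 2, 0, 0, 0],
    [0, 2, 2, 0, 0, 0, 2, 2, 0, 0, 2],
    [0, 2, 2, 0, 0, 2, 0, 2, 0, 2, 2],
    [0, 2, 2, 0, 0, 2, 2, 2, 0, 0, 2],
    [0, 2, 2, 0, 0, 2, 2, 2, 0, 2, 2],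
    [0, 2, 2, 0, 2, 0, 0, 0, 2, 0, 2],
    [0, 2, 2, 0, 2, 0, 0, 0, 2, 2, 2],
    [0, 2, 2, 0, 2, 0, 0, 2, 0, 0, 2],
    [0, 2, 2, 0, 2, 0, 0, 2, 0, 2, 2],
    [0, 2, 2, 0, 2, 0, 2, 0, 0, 0, 2],
    [0, 2, 2, 0, 2, 0, 2, 2, 2, 0, 2],
    [0, 2, 2, 0, 2, 2, 0, 0, 2, 2, 0],
    [0, 2, 2, 0, 2, 2, 0, 0, 2, 2, 2],
    [0, 2, 2, 0, 2, 2, 0, 2, 0, 0, 0],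
    [0, 2, 2, 0, 2, 2, 0, 2, 0, 0, 2],
    [0, 2, 2, 0, 2, 2, 0, 2, 0, 2, 0],
    [0, 2, 2, 0, 2, 2, 0, 2, 0, 2, 2],
    [0, 2, 2, 0, 2, 2, 0, 2, 2, 0, 0],
    [0, 2, 2, 0, 2, 2, 0, 2, 2, 2, 0],
    [0, 2, 2, 0, 2, 2, 2, 0, 2, 0, 0],
    [0, 2, 2, 0, 2, 2, 2, 0, 2, 0, 2],
    [0, 2, 2, 0, 2, 2, 2, 0, 2, 2, 0],
    [0, 2, 2, 2, 0, 0, 2, 0, 2, 2, 2],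
    [0, 2, 2, 2, 0, 0, 2, 2, 0, 0, 0],
    [0, 2, 2, 2, 0, 0, 2, 2, 0, 0, 2],
    [0, 2, 2, 2, 0, 0, 2, 2, 0, 2, 0],
    [0, 2, 2, 2, 0, 0, 2, 2, 2, 0, 2],
    [2, 0, 0, 0, 2, 0, 0, 0, 2, 2, 2]]

/-- Words of the transversal. -/
def twList13 : List (List ℕ) :=
  [[2, 0, 0, 0, 2, 0, 0, 2, 0, 2, 0],
    [2, 0, 0, 0, 2, 0, 0, 2, 0, 2, 2],
    [2, 0, 0, 0, 2, 0, 0, 2, 2, 2, 0],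
    [2, 0, 0, 0, 2, 0, 2, 0, 2, 2, 0],
    [2, 0, 0, 0, 2, 0, 2, 0, 2, 2, 2],
    [2, 0, 0, 2, 0, 0, 0, 2, 0, 0, 2],
    [2, 0, 0, 2, 0, 0, 0, 2, 0, 2, 2],
    [2, 0, 0, 2, 0, 0, 2, 0, 2, 2, 0],
    [2, 0, 0, 2, 2, 0, 0, 2, 0, 0, 0],
    [2, 0, 0, 2, 2, 0, 0, 2, 0, 0, 2],
    [2, 0, 0, 2, 2, 0, 0, 2, 0, 2, 0],
    [2, 0, 0, 2, 2, 0, 2, 2, 0, 2, 0],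
    [2, 0, 0, 2, 2, 0, 2, 2, 2, 0, 0],
    [2, 0, 0, 2, 2, 2, 0, 0, 0, 2, 0],
    [2, 0, 0, 2, 2, 2, 0, 0, 0, 2, 2],
    [2, 0, 2, 0, 0, 0, 2, 0, 0, 0, 2],
    [2, 0, 2, 0, 0, 0, 2, 2, 0, 0, 0],
    [2, 0, 2, 0, 0, 0, 2, 2, 0, 2, 0],
    [2, 0, 2, 0, 0, 0, 2, 2, 0, 2, 2],
    [2, 0, 2, 0, 0, 2, 0, 0, 0, 2, 0],
    [2, 0, 2, 0, 0, 2, 2, 0, 0, 2, 2],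
    [2, 0, 2, 0, 0, 2, 2, 0, 2, 2, 0],
    [2, 0, 2, 0, 0, 2, 2, 2, 0, 0, 0],
    [2, 0, 2, 0, 0, 2, 2, 2, 0, 0, 2],
    [2, 0, 2, 0, 0, 2, 2, 2, 0, 2, 0],
    [2, 0, 2, 0, 2, 0, 0, 0, 2, 0, 0],
    [2, 0, 2, 0, 2, 0, 0, 0, 2, 2, 0],
    [2, 0, 2, 0, 2, 2, 0, 0, 0, 2, 2],
    [2, 0, 2, 0, 2, 2, 0, 2, 0, 0, 2],
    [2, 0, 2, 0, 2, 2, 0, 2, 0, 2, 2],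
    [2, 0, 2, 0, 2, 2, 0, 2, 2, 0, 0],
    [2, 0, 2, 0, 2, 2, 0, 2, 2, 0, 2],
    [2, 0, 2, 0, 2, 2, 0, 2, 2, 2, 0],
    [2, 0, 2, 2, 0, 0, 0, 2, 0, 0, 2],
    [2, 0, 2, 2, 0, 0, 0, 2, 0, 2, 0],
    [2, 0, 2, 2, 0, 2, 0, 0, 2, 0, 2],
    [2, 0, 2, 2, 0, 2, 2, 2, 0, 0, 0],
    [2, 0, 2, 2, 2, 0, 0, 2, 0, 0, 2],
    [2, 0, 2, 2, 2, 0, 0, 2, 0, 2, 0],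
    [2, 0, 2, 2, 2, 0, 2, 2, 0, 0, 0],
    [2, 0, 2, 2, 2, 0, 2, 2, 0, 0, 2],
    [2, 0, 2, 2, 2, 0, 2, 2, 2, 0, 2],
    [2, 2, 0, 0, 0, 2, 0, 2, 0, 0, 2],
    [2, 2, 0, 0, 0, 2, 0, 2, 0, 2, 2],
    [2, 2, 0, 0, 0, 2, 0, 2, 2, 0, 0],
    [2, 2, 0, 0, 0, 2, 0, 2, 2, 0, 2],
    [2, 2, 0, 0, 0, 2, 0, 2, 2, 2, 0],
    [2, 2, 0, 0, 0, 2, 2, 0, 0, 2, 0],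
    [2, 2, 0, 0, 0, 2, 2, 0, 0, 2, 2],
    [2, 2, 0, 0, 0, 2, 2, 0, 2, 0, 0],
    [2, 2, 0, 0, 0, 2, 2, 0, 2, 0, 2],
    [2, 2, 0, 0, 2, 0, 0, 0, 2, 2, 0],
    [2, 2, 0, 0, 2, 0, 0, 0, 2, 2, 2],
    [2, 2, 0, 0, 2, 0, 0, 2, 0, 2, 0],
    [2, 2, 0, 0, 2, 0, 0, 2, 2, 0, 0],
    [2, 2, 0, 0, 2, 0, 0, 2, 2, 0, 2],
    [2, 2, 0, 0, 2, 0, 2, 0, 0, 2, 2],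
    [2, 2, 0, 0, 2, 0, 2, 2, 0, 0, 2],
    [2, 2, 0, 2, 0, 0, 2, 2, 0, 2, 2],
    [2, 2, 0, 2, 2, 0, 2, 2, 0, 0, 0],
    [2, 2, 0, 2, 2, 0, 2, 2, 0, 0, 2],
    [2, 2, 0, 2, 2, 2, 0, 0, 2, 0, 2],
    [2, 2, 0, 2, 2, 2, 0, 0, 2, 2, 2],
    [2, 2, 2, 0, 0, 0, 2, 0, 0, 0, 2]]

/-- Words of the transversal. -/
def twList14 : List (List ℕ) :=
  [[2, 2, 2, 0, 0, 2, 0, 0, 0, 2, 0],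
    [2, 2, 2, 0, 0, 2, 0, 0, 0, 2, 2],
    [2, 2, 2, 0, 0, 2, 0, 0, 2, 2, 0],
    [2, 2, 2, 0, 0, 2, 0, 0, 2, 2, 2],
    [2, 2, 2, 0, 0, 2, 0, 2, 2, 0, 2],
    [2, 2, 2, 0, 0, 2, 2, 0, 2, 0, 0],
    [2, 2, 2, 0, 0, 2, 2, 0, 2, 0, 2],
    [2, 2, 2, 0, 0, 2, 2, 0, 2, 2, 2],
    [2, 2, 2, 0, 2, 0, 0, 2, 0, 0, 0],
    [2, 2, 2, 0, 2, 0, 2, 2, 0, 0, 0],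
    [2, 2, 2, 0, 2, 0, 2, 2, 0, 2, 0],
    [2, 2, 2, 0, 2, 0, 2, 2, 0, 2, 2],
    [2, 2, 2, 0, 2, 0, 2, 2, 2, 0, 0],
    [0, 0, 0, 0, 0, 2, 0, 0, 0, 2, 0, 2],
    [0, 0, 0, 0, 0, 2, 0, 0, 2, 0, 2, 2],
    [0, 0, 0, 0, 0, 2, 0, 2, 2, 2, 0, 0],
    [0, 0, 0, 0, 0, 2, 0, 2, 2, 2, 0, 2],
    [0, 0, 0, 0, 0, 2, 2, 0, 0, 2, 2, 0],
    [0, 0, 0, 0, 0, 2, 2, 0, 2, 0, 0, 0],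
    [0, 0, 0, 0, 0, 2, 2, 0, 2, 2, 0, 2],
    [0, 0, 0, 0, 2, 0, 0, 2, 2, 0, 0, 2],
    [0, 0, 0, 0, 2, 0, 2, 0, 0, 0, 2, 2],
    [0, 0, 0, 0, 2, 0, 2, 0, 2, 2, 0, 0],
    [0, 0, 0, 0, 2, 0, 2, 0, 2, 2, 0, 2],
    [0, 0, 0, 0, 2, 2, 0, 0, 0, 2, 0, 0],
    [0, 0, 0, 0, 2, 2, 2, 0, 0, 2, 0, 0],
    [0, 0, 0, 0, 2, 2, 2, 0, 0, 2, 0, 2],
    [0, 0, 0, 2, 0, 0, 2, 0, 2, 0, 0, 2],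
    [0, 0, 0, 2, 0, 0, 2, 0, 2, 0, 2, 2],
    [0, 0, 0, 2, 0, 0, 2, 2, 0, 2, 2, 0],
    [0, 0, 0, 2, 0, 2, 2, 2, 0, 2, 0, 2],
    [0, 0, 0, 2, 2, 0, 2, 0, 0, 0, 2, 0],
    [0, 0, 0, 2, 2, 0, 2, 0, 0, 0, 2, 2],
    [0, 0, 0, 2, 2, 2, 0, 2, 0, 2, 2, 2],
    [0, 0, 2, 0, 0, 2, 0, 0, 0, 2, 0, 0],
    [0, 0, 2, 0, 0, 2, 0, 0, 2, 0, 2, 2],
    [0, 0, 2, 0, 2, 0, 0, 0, 2, 0, 0, 0],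
    [0, 0, 2, 0, 2, 0, 0, 0, 2, 0, 2, 2],
    [0, 0, 2, 0, 2, 0, 0, 2, 2, 2, 0, 2],
    [0, 0, 2, 0, 2, 2, 2, 0, 0, 0, 2, 2],
    [0, 0, 2, 2, 0, 0, 0, 2, 0, 0, 0, 2],
    [0, 0, 2, 2, 0, 0, 0, 2, 2, 0, 2, 0],
    [0, 0, 2, 2, 0, 0, 0, 2, 2, 2, 0, 0],
    [0, 0, 2, 2, 0, 2, 0, 0, 2, 2, 0, 2],
    [0, 0, 2, 2, 2, 0, 0, 2, 0, 2, 2, 0],
    [0, 2, 0, 0, 2, 0, 2, 0, 2, 2, 0, 0],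
    [0, 2, 0, 0, 2, 0, 2, 0, 2, 2, 0, 2],
    [0, 2, 0, 0, 2, 0, 2, 2, 0, 2, 0, 0],
    [0, 2, 0, 0, 2, 0, 2, 2, 0, 2, 0, 2],
    [0, 2, 0, 0, 2, 2, 2, 0, 2, 2, 0, 0],
    [0, 2, 0, 2, 0, 0, 2, 0, 0, 0, 2, 0],
    [0, 2, 0, 2, 0, 0, 2, 0, 0, 0, 2, 2],
    [0, 2, 0, 2, 0, 2, 2, 0, 0, 2, 2, 0],
    [0, 2, 0, 2, 0, 2, 2, 0, 0, 2, 2, 2],
    [0, 2, 0, 2, 0, 2, 2, 2, 0, 2, 2, 0],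
    [0, 2, 0, 2, 2, 0, 0, 0, 2, 2, 2, 0],
    [0, 2, 0, 2, 2, 0, 0, 2, 0, 0, 2, 2],
    [0, 2, 0, 2, 2, 0, 0, 2, 0, 2, 2, 2],
    [0, 2, 0, 2, 2, 0, 0, 2, 2, 0, 2, 0],
    [0, 2, 0, 2, 2, 0, 0, 2, 2, 0, 2, 2],
    [0, 2, 0, 2, 2, 0, 2, 0, 0, 0, 2, 2],
    [0, 2, 0, 2, 2, 0, 2, 0, 2, 2, 0, 2],
    [0, 2, 0, 2, 2, 0, 2, 0, 2, 2, 2, 0],
    [0, 2, 0, 2, 2, 2, 0, 2, 0, 2, 2, 2]]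

/-- Words of the transversal. -/
def twList15 : List (List ℕ) :=
  [[0, 2, 2, 0, 0, 0, 2, 0, 0, 2, 2, 0],
    [0, 2, 2, 0, 0, 2, 0, 2, 0, 2, 2, 0],
    [0, 2, 2, 0, 0, 2, 2, 2, 0, 2, 2, 0],
    [0, 2, 2, 0, 0, 2, 2, 2, 0, 2, 2, 2],
    [0, 2, 2, 0, 2, 0, 0, 0, 2, 0, 2, 0],
    [0, 2, 2, 0, 2, 0, 0, 0, 2, 0, 2, 2],
    [0, 2, 2, 0, 2, 0, 2, 2, 2, 0, 2, 0],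
    [0, 2, 2, 0, 2, 0, 2, 2, 2, 0, 2, 2],
    [0, 2, 2, 0, 2, 2, 0, 0, 2, 2, 0, 2],
    [0, 2, 2, 0, 2, 2, 0, 2, 0, 0, 0, 2],
    [0, 2, 2, 0, 2, 2, 0, 2, 0, 0, 2, 0],
    [0, 2, 2, 0, 2, 2, 0, 2, 0, 0, 2, 2],
    [0, 2, 2, 0, 2, 2, 0, 2, 0, 2, 2, 0],
    [0, 2, 2, 0, 2, 2, 0, 2, 0, 2, 2, 2],
    [0, 2, 2, 0, 2, 2, 2, 0, 2, 0, 0, 0],
    [0, 2, 2, 0, 2, 2, 2, 0, 2, 0, 2, 0],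
    [0, 2, 2, 2, 0, 0, 2, 2, 0, 0, 2, 2],
    [0, 2, 2, 2, 0, 0, 2, 2, 0, 2, 0, 2],
    [0, 2, 2, 2, 0, 0, 2, 2, 2, 0, 2, 0],
    [2, 0, 0, 0, 2, 0, 2, 0, 2, 2, 0, 2],
    [2, 0, 0, 2, 0, 0, 0, 2, 0, 0, 2, 2],
    [2, 0, 0, 2, 2, 0, 0, 2, 0, 0, 0, 2],
    [2, 0, 0, 2, 2, 0, 2, 2, 2, 0, 0, 0],
    [2, 0, 0, 2, 2, 2, 0, 0, 0, 2, 0, 2],
    [2, 0, 2, 0, 0, 0, 2, 2, 0, 2, 0, 2],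
    [2, 0, 2, 0, 0, 2, 2, 0, 0, 2, 2, 0],
    [2, 0, 2, 0, 0, 2, 2, 0, 2, 2, 0, 0],
    [2, 0, 2, 0, 0, 2, 2, 2, 0, 0, 0, 2],
    [2, 0, 2, 0, 0, 2, 2, 2, 0, 2, 0, 0],
    [2, 0, 2, 0, 2, 0, 0, 0, 2, 2, 0, 0],
    [2, 0, 2, 0, 2, 0, 0, 0, 2, 2, 0, 2],
    [2, 0, 2, 2, 0, 0, 0, 2, 0, 0, 2, 0],
    [2, 0, 2, 2, 0, 2, 0, 0, 2, 0, 2, 0],
    [2, 0, 2, 2, 2, 0, 0, 2, 0, 0, 2, 2],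
    [2, 0, 2, 2, 2, 0, 0, 2, 0, 2, 0, 0],
    [2, 2, 0, 0, 0, 2, 0, 2, 2, 2, 0, 0],
    [2, 2, 0, 0, 2, 0, 0, 0, 2, 2, 2, 0],
    [2, 2, 0, 0, 2, 0, 0, 2, 2, 0, 0, 2],
    [2, 2, 0, 0, 2, 0, 0, 2, 2, 0, 2, 2],
    [2, 2, 0, 2, 2, 2, 0, 0, 2, 0, 2, 0],
    [2, 2, 2, 0, 0, 2, 0, 0, 0, 2, 0, 2],
    [2, 2, 2, 0, 0, 2, 0, 2, 2, 0, 2, 0],
    [2, 2, 2, 0, 0, 2, 2, 0, 2, 2, 2, 0],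
    [2, 2, 2, 0, 2, 0, 2, 2, 0, 2, 0, 0],
    [0, 0, 0, 0, 0, 2, 0, 2, 2, 2, 0, 2, 0],
    [0, 0, 0, 0, 0, 2, 2, 0, 2, 2, 0, 2, 0],
    [0, 0, 0, 0, 2, 0, 0, 2, 2, 0, 0, 2, 0],
    [0, 0, 0, 0, 2, 2, 0, 0, 0, 2, 0, 0, 0],
    [0, 0, 0, 0, 2, 2, 0, 0, 0, 2, 0, 0, 2],
    [0, 0, 0, 0, 2, 2, 2, 0, 0, 2, 0, 0, 2],
    [0, 0, 0, 2, 0, 0, 2, 0, 2, 0, 2, 2, 2],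
    [0, 0, 2, 0, 2, 0, 0, 0, 2, 0, 2, 2, 2],
    [0, 0, 2, 2, 0, 0, 0, 2, 2, 0, 2, 0, 2],
    [0, 0, 2, 2, 2, 0, 0, 2, 0, 2, 2, 0, 0],
    [0, 2, 0, 0, 2, 0, 2, 2, 0, 2, 0, 2, 2],
    [0, 2, 0, 2, 0, 2, 2, 0, 0, 2, 2, 2, 0],
    [0, 2, 0, 2, 2, 0, 0, 0, 2, 2, 2, 0, 0],
    [0, 2, 2, 0, 2, 2, 0, 2, 0, 0, 2, 2, 0],
    [0, 2, 2, 0, 2, 2, 0, 2, 0, 2, 2, 2, 0],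
    [2, 0, 2, 0, 0, 2, 2, 2, 0, 2, 0, 0, 2],
    [2, 2, 0, 0, 0, 2, 0, 2, 2, 2, 0, 0, 0],
    [2, 2, 0, 0, 2, 0, 0, 2, 2, 0, 0, 2, 0],
    [2, 2, 0, 0, 2, 0, 0, 2, 2, 0, 2, 2, 2],
    [0, 0, 0, 0, 0, 2, 0, 2, 2, 2, 0, 2, 0, 2]]

/-- The transversal in blocks of 64. -/
def twBlocks : List (List (List ℕ)) :=
  [twList0, twList1, twList2, twList3, twList4, twList5, twList6, twList7, twList8, twList9,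
    twList10, twList11, twList12, twList13, twList14, twList15]

end CfsgLib.RuUniq
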