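import Cfsg.Agent.Lib.PresCert.Fast

/-!
# The base (generated)
-/

set_option autoImplicit false
set_option maxRecDepth 100000

namespace CfsgLib.RuUniq

open CfsgLib.PresCert

/-- Points. -/
def lev2Pts0 : List ℕ :=
  [1, 736, 252, 590, 719, 1705, 761, 303, 1543, 955, 1015, 756, 1340, 747, 1032, 505, 855, 456,
      1242, 1112]

/-- Parents. -/
def lev2Par0 : List (ℕ × ℕ) :=
  [(0, 0), (1, 0), (0, 1), (1, 1), (0, 2), (1, 2), (0, 3), (0, 4), (1, 4), (0, 5), (1, 5),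
    (0, 6), (1, 6), (0, 7), (1, 8), (1, 9), (1, 11), (1, 12), (0, 13)]

/-- A level. -/
def lev2 : Fast.Level :=
  { base := 1, gens := [[0, 0, 2, 1, 2, 0, 2, 2],
    [0, 2, 2, 1, 2, 1, 2, 1, 2]]
    pts := lev2Pts0
    par := lev2Par0 }

end CfsgLib.RuUniq
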