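import Cfsg.Agent.Lib.RuUniq.Orbits
import Cfsg.Agent.Lib.RuUniq.LevelData

/-!
# Kernel checks of the forests and of the words
-/

set_option autoImplicit false
set_option maxRecDepth 100000

namespace CfsgLib.RuUniq

open CfsgLib.PresCert

theorem orbForest_shape : Fast.forestShape tab orbForest = true := by decide +kernel

theorem orbForest_block0 : Fast.forestBlock tab orbForest 0 = true := by decide +kernel

theorem orbForest_block1 : Fast.forestBlock tab orbForest 1 = true := by decide +kernel

theorem allForest_shape : Fast.forestShape tab allForest = true := by decide +kernel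

theorem allForest_block0 : Fast.forestBlock tab allForest 0 = true := by decide +kernel

theorem allForest_block1 : Fast.forestBlock tab allForest 1 = true := by decide +kernel

theorem tw_ok : twOk = true := by decide +kernel

theorem sw_ok : swOk lev2.pts = true := by decide +kernel

theorem lev2_ok : Fast.levelsOk tab [0, 7] [lev2] = true ∧ lev2.base = 1 ∧ lev2.pts.length = 20 := by
  decide +kernel

theorem lab_counts : labCount 0 = 1 ∧ labCount 1 = 10 ∧ labCount 2 = 80 ∧ labCount 3 = 640 ∧
    labCount 4 = 1024 := by
  decide +kernel

theorem lab_special : labOf 0 = 0 ∧ labOf 7 = 4 ∧ labOf 789 = 3 := by decide +kernel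

end CfsgLib.RuUniq
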