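import Cfsg.Agent.Lib.RuUniq.Action
import Cfsg.Agent.Lib.RuUniq.CertChecks
import Cfsg.Agent.Lib.RuUniq.OrbitsCheck

/-!
# The orders of the presented stabiliser and of its point stabiliser
-/

set_option autoImplicit false
set_option maxRecDepth 100000

namespace CfsgLib.RuUniq

open CfsgLib.PresCert

/-- The subgroup of the first four letters. -/
def subP : Subgroup Hp := genGrp [[0], [2]] genH

theorem genH_mem_subP {g : ℕ} (hg : g < 4) : genH g ∈ subP := by
  have h0 : genH 0 ∈ subP := Subgroup.subset_closure ⟨[0], by simp, act_one_letter 0⟩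
  have h2 : genH 2 ∈ subP := Subgroup.subset_closure ⟨[2], by simp, act_one_letter 2⟩
  interval_cases g
  · exact h0
  · rw [show genH 1 = (genH 0)⁻¹ by simp [genH, freeH]]; exact inv_mem h0
  · exact h2
  · rw [show genH 3 = (genH 2)⁻¹ by simp [genH, freeH]]; exact inv_mem h2

theorem act_mem_subP {w : List ℕ} (hw : ∀ g ∈ w, g < 4) : act genH w ∈ subP :=
  act_mem_genGrp fun g hg => genH_mem_subP (hw g hg)

theorem relsP_sub : (∀ w ∈ relsP, w ∈ relsH) ∧ repWord 16 [1, 2] ∈ relsP := by
  refine ⟨fun w hw => List.mem_append_left _ hw, ?_⟩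
  decide +kernel

theorem fix_coset {M : Type*} [Group M] {gen : ℕ → M} {S : List (List ℕ)} {w : List ℕ} (h : w ∈ S) :
    act gen w • ((1 : M) : M ⧸ genGrp S gen) = ((1 : M) : M ⧸ genGrp S gen) := by
  rw [MulAction.Quotient.smul_coe, smul_eq_mul, mul_one, QuotientGroup.eq, mul_one]
  exact inv_mem (Subgroup.subset_closure ⟨w, h, rfl⟩)

theorem cyclic_le : Finite (genGrp [[1, 2]] genH) ∧ Nat.card (genGrp [[1, 2]] genH) ≤ 16 := by
  have e : genGrp [[1, 2]] genH = Subgroup.zpowers (act genH [1, 2]) := by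
    rw [genGrp, Subgroup.zpowers_eq_closure]
    congr 1
    ext m
    simp [eq_comm]
  have h : act genH [1, 2] ^ 16 = 1 := by
    rw [← act_repWord]
    exact relsH_act (relsP_sub.1 _ relsP_sub.2)
  have hfin : IsOfFinOrder (act genH [1, 2]) := isOfFinOrder_iff_pow_eq_one.2 ⟨16, by norm_num, h⟩
  rw [e]
  refine ⟨hfin.finite_zpowers.to_subtype, ?_⟩
  rw [Nat.card_zpowers]
  exact Nat.le_of_dvd (by norm_num) (orderOf_dvd_of_pow_eq_one h)

theorem subP_le : Finite subP ∧ Nat.card subP ≤ 20480 := by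
  obtain ⟨h1, h2⟩ := cyclic_le
  haveI := h1
  obtain ⟨c1, c2, c3, c4⟩ := certP_words
  have H : Paired.PairHyp certP iv genH ((1 : Hp) : Hp ⧸ genGrp [[1, 2]] genH) :=
    Paired.pairHyp_of_hints (fun g hg => genH_inv g (by rw [c4] at hg; omega))
      (fun w hw => relsH_act (relsP_sub.1 w hw)) (fun w hw => fix_coset hw) c1 c2
  obtain ⟨f1, f2⟩ := Paired.card_le h2 certP_closed H
  have e : genGrp [[0], [1], [2], [3]] genH = subP := by
    refine le_antisymm ((Subgroup.closure_le _).2 ?_) (Subgroup.closure_mono ?_)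
    · rintro m ⟨w, hw, rfl⟩
      refine act_mem_subP ?_
      fin_cases hw <;> simp
    · rintro m ⟨w, hw, rfl⟩
      refine ⟨w, ?_, rfl⟩
      fin_cases hw <;> simp
  rw [e] at f1 f2
  exact ⟨f1, f2.trans (by rw [c3])⟩

theorem hp_le : Finite Hp ∧ Nat.card Hp ≤ 1755 * 20480 := by
  obtain ⟨h1, h2⟩ := subP_le
  haveI : Finite (genGrp [[0], [2]] genH) := h1
  obtain ⟨c1, c2, c3, c4⟩ := certH_words
  have H : Paired.PairHyp certH iv genH ((1 : Hp) : Hp ⧸ genGrp [[0], [2]] genH) :=
    Paired.pairHyp_of_hints (fun g hg => genH_inv g (by rw [c4] at hg; exact hg))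
      (fun w hw => relsH_act hw) (fun w hw => fix_coset hw) c1 c2
  obtain ⟨f1, f2⟩ := Paired.card_le h2 certH_closed H
  have e : genGrp [[0], [1], [2], [3], [4]] genH = ⊤ := genGrp_letters (n := 5) genH genH_top
  rw [e] at f1 f2
  rw [Subgroup.card_top] at f2
  exact ⟨Finite.of_equiv _ Subgroup.topEquiv.toEquiv, f2.trans (by rw [c3])⟩

instance finite_hp : Finite Hp := hp_le.1

theorem orbForest_ok : Fast.ForestOk tab orbForest where
  shape := orbForest_shape
  blocks b hb := by
    have : b < 2 := by change 1000 * b < 1755 at hb; omega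
    interval_cases b
    exacts [orbForest_block0, orbForest_block1]

theorem allForest_ok : Fast.ForestOk tab allForest where
  shape := allForest_shape
  blocks b hb := by
    have : b < 2 := by change 1000 * b < 1755 at hb; omega
    interval_cases b
    exacts [allForest_block0, allForest_block1]

/-- The point fixed by the subgroup. -/
def pt (i : ℕ) (h : i < 1755 := by norm_num) : Fin 1755 := ⟨i, h⟩

theorem trans_φ (i : Fin 1755) : ∃ m : Hp, φ m (pt 0) = i := by
  obtain ⟨m, -, hm⟩ := allForest_ok.reach realised i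
  exact ⟨m, hm⟩

theorem subP_fix {m : Hp} (hm : m ∈ subP) : φ m (pt 0) = pt 0 := by
  have h : φ m (pt 0) ∈ ({pt 0} : Set (Fin 1755)) := by
    obtain ⟨q, hq⟩ : ∃ q, q = φ m (pt 0) := ⟨_, rfl⟩
    have hlab : labOf q.val = 0 := by
      rw [hq]
      exact (orbForest_ok.invariant realised hm (pt 0)).trans lab_special.1
    rcases (orbForest_ok.spec q.isLt).2.2 with h | ⟨r, hr, hd, hl, -, -, -⟩
    · rw [← hq]
      refine Fin.ext (h.trans ?_)
      show roots.getD (labOf q.val) 0 = 0
      rw [hlab]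
      rfl
    · exfalso
      have h1 := lab_counts.1
      have hne : r ≠ q.val := fun e => by rw [e] at hd; exact lt_irrefl _ hd
      have : 2 ≤ labCount 0 := by
        rw [labCount, ← List.toFinset_card_of_nodup (List.nodup_range.filter _)]
        refine Finset.one_lt_card.2 ⟨r, ?_, q.val, ?_, hne⟩
        · simp only [List.mem_toFinset, List.mem_filter, List.mem_range, Nat.beq_eq]
          exact ⟨hr, hl.trans hlab⟩
        · simp only [List.mem_toFinset, List.mem_filter, List.mem_range, Nat.beq_eq]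
          exact ⟨q.isLt, hlab⟩
      omega
  exact h

theorem tw_spec {q : ℕ} (hq : q < 1755) (hl : labOf q = 4) :
    idxOf q < 1024 ∧ (∀ g ∈ twWord (idxOf q), g < 4) ∧ tab.walk 7 (twWord (idxOf q)) = q ∧
      tab.walk 0 (twWord (idxOf q)) = 0 := by
  have h := tw_ok
  simp only [twOk, List.all_eq_true, List.mem_range, Bool.or_eq_true, Bool.not_eq_true',
    Bool.and_eq_true, Nat.blt_eq, Nat.beq_eq] at h
  rcases h q hq with h' | h'
  · rw [hl] at h'
    exact Bool.noConfusion h'
  · exact ⟨h'.1.1.1, lettersLt_spec h'.1.1.2, h'.1.2, h'.2⟩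

theorem lt5_of_lt4 {w : List ℕ} (h : ∀ g ∈ w, g < 4) : ∀ g ∈ w, g < tab.ng :=
  fun g hg => lt_trans (h g hg) (show 4 < 5 by norm_num)

theorem walk_apply {w : List ℕ} (hw : ∀ g ∈ w, g < 5) (i : Fin 1755) :
    ((φ (act genH w) i : Fin 1755) : ℕ) = tab.walk i.val w :=
  realised.act_apply hw i

theorem act_elWord (i j : ℕ) : act genH (elWord i j) = act genH (twWord j) * act genH (swWord i) :=
  act_append _ _ _

theorem sw_spec {k : ℕ} (hk : k < 20) :
    (∀ g ∈ swWord k, g < 4) ∧ tab.walk 0 (swWord k) = 0 ∧ tab.walk 7 (swWord k) = 7 ∧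
      tab.walk 1 (swWord k) = lev2.pts.getD k 0 := by
  have h := sw_ok
  simp only [swOk, List.all_eq_true, List.mem_range, Bool.and_eq_true, Nat.beq_eq] at h
  exact ⟨lettersLt_spec (h k hk).1.1.1, (h k hk).1.1.2, (h k hk).1.2, (h k hk).2⟩

theorem lev2_nodup : lev2.pts.Nodup ∧ lev2.pts.length = 20 ∧ lev2.pts.getD 0 0 = 1 ∧ swWord 0 = [] ∧
    idxOf 7 = 0 ∧ twWord 0 = [] := by
  decide +kernel

/-- The elements of the stabiliser of the first point in normal form. -/
theorem elements (m : Hp) (hm : φ m (pt 0) = pt 0) :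
    ∃ q k, q < 1755 ∧ labOf q = 4 ∧ k < 20 ∧ m = act genH (elWord k (idxOf q)) ∧
      (φ m (pt 7)).val = q ∧ Nat.card Hp = 35942400 ∧ Nat.card subP = 20480 ∧ m ∈ subP := by
  classical
  letI : MulAction Hp (Fin 1755) := MulAction.compHom _ φ
  let S0 : Subgroup Hp := (MulAction.stabilizer (Equiv.Perm (Fin 1755)) (pt 0)).comap φ
  have hst : ∀ m : Hp, m ∈ S0 ↔ φ m (pt 0) = pt 0 := fun m => Iff.rfl
  have horb : Nat.card Hp = 1755 * Nat.card (S0) := by
    have h := Nat.card_congr (MulAction.orbitProdStabilizerEquivGroup Hp (pt 0))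
    rw [Nat.card_prod, Set.eq_univ_of_forall (s := MulAction.orbit Hp (pt 0)) trans_φ,
      Nat.card_congr (Equiv.Set.univ _), Nat.card_fin] at h
    rw [← h]
    congr 1
  have hsub : subP ≤ S0 := fun m hm => (hst m).2 (subP_fix hm)
  have hmem : ∀ (q : {q : Fin 1755 // labOf q.val = 4}) (k : Fin 20),
      act genH (elWord k (idxOf q.1)) ∈ subP := fun q k => by
    rw [act_elWord]
    exact mul_mem (act_mem_subP (tw_spec q.1.isLt q.2).2.1) (act_mem_subP (sw_spec k.isLt).1)
  have himg : ∀ (q : {q : Fin 1755 // labOf q.val = 4}) (k : Fin 20),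
      (φ (act genH (elWord k (idxOf q.1))) (pt 7)).val = q.1.val := fun q k => by
    rw [act_elWord, map_mul, Equiv.Perm.mul_apply,
      show φ (act genH (swWord k)) (pt 7) = pt 7 from
        Fin.ext ((walk_apply (lt5_of_lt4 (sw_spec k.isLt).1) _).trans (sw_spec k.isLt).2.2.1),
      walk_apply (lt5_of_lt4 (tw_spec q.1.isLt q.2).2.1)]
    exact (tw_spec q.1.isLt q.2).2.2.1
  let F : {q : Fin 1755 // labOf q.val = 4} × Fin 20 → subP := fun p => ⟨_, hmem p.1 p.2⟩
  have hinj : Function.Injective F := fun a b e => by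
    have e0 : act genH (elWord a.2 (idxOf a.1.1)) = act genH (elWord b.2 (idxOf b.1.1)) :=
      congrArg Subtype.val e
    have hq : a.1 = b.1 := by
      refine Subtype.ext (Fin.ext ?_)
      rw [← himg a.1 a.2, ← himg b.1 b.2, e0]
    rw [hq, act_elWord, act_elWord] at e0
    have e1 := congrArg (fun m => (φ m (pt 1)).val) (mul_left_cancel e0)
    simp only [walk_apply (lt5_of_lt4 (sw_spec a.2.isLt).1),
      walk_apply (lt5_of_lt4 (sw_spec b.2.isLt).1)] at e1
    change tab.walk 1 _ = tab.walk 1 _ at e1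
    rw [(sw_spec a.2.isLt).2.2.2, (sw_spec b.2.isLt).2.2.2,
      List.getD_eq_getElem _ _ (Nat.lt_of_lt_of_eq a.2.isLt lev2_nodup.2.1.symm),
      List.getD_eq_getElem _ _ (Nat.lt_of_lt_of_eq b.2.isLt lev2_nodup.2.1.symm), lev2_nodup.1.getElem_inj_iff] at e1
    exact Prod.ext hq (Fin.ext e1)
  have hcount : Nat.card {q : Fin 1755 // labOf q.val = 4} = 1024 := by
    rw [Nat.card_eq_fintype_card, Fintype.card_subtype, ← lab_counts.2.2.2.2, labCount,
      ← List.toFinset_card_of_nodup (List.nodup_range.filter _)]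
    refine Finset.card_bij (fun q _ => q.val) (fun q hq => ?_) (fun a _ b _ e => Fin.ext e)
      fun v hv => ?_
    · simp only [List.mem_toFinset, List.mem_filter, List.mem_range, Nat.beq_eq]
      exact ⟨q.isLt, (Finset.mem_filter.1 hq).2⟩
    · simp only [List.mem_toFinset, List.mem_filter, List.mem_range, Nat.beq_eq] at hv
      exact ⟨⟨v, hv.1⟩, Finset.mem_filter.2 ⟨Finset.mem_univ _, hv.2⟩, rfl⟩
  haveI := subP_le.1
  have hP1 := Nat.card_le_card_of_injective F hinj
  rw [Nat.card_prod, hcount, Nat.card_fin] at hP1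
  have hP : Nat.card subP = 20480 := le_antisymm subP_le.2 hP1
  have hsurj : Function.Surjective F := ((Nat.bijective_iff_injective_and_card F).2
    ⟨hinj, by rw [Nat.card_prod, hcount, Nat.card_fin, hP]⟩).2
  have h1 := Nat.card_le_card_of_injective _ (Subgroup.inclusion_injective hsub)
  have h2 := hp_le.2
  have hf : Nat.card (S0) = 20480 := by omega
  have hmP : m ∈ subP := by
    rw [show subP = S0 from Subgroup.eq_of_le_of_card_ge hsub (by omega)]
    exact (hst m).2 hm
  obtain ⟨⟨q, k⟩, e⟩ := hsurj ⟨m, hmP⟩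
  have e' : act genH (elWord k (idxOf q.1)) = m := congrArg Subtype.val e
  exact ⟨q.1, k, q.1.isLt, q.2, k.isLt, e'.symm, e' ▸ himg q k, by omega, hP, hmP⟩

theorem card_hp : Nat.card Hp = 35942400 := by
  obtain ⟨q, k, -, -, -, -, -, h, -⟩ := elements 1 (by simp)
  exact h

theorem card_subP : Nat.card subP = 20480 := by
  obtain ⟨q, k, -, -, -, -, -, -, h, -⟩ := elements 1 (by simp)
  exact h

theorem mem_subP {m : Hp} : m ∈ subP ↔ φ m (pt 0) = pt 0 := by
  refine ⟨subP_fix, fun h => ?_⟩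
  obtain ⟨q, k, -, -, -, -, -, -, -, h⟩ := elements m h
  exact h

/-- The base is a base. -/
theorem eq_one_of_base {m : Hp} (h0 : φ m (pt 0) = pt 0) (h7 : φ m (pt 7) = pt 7)
    (h1 : φ m (pt 1) = pt 1) : m = 1 := by
  obtain ⟨q, k, hq, hl, hk, e, e7, -⟩ := elements m h0
  rw [h7] at e7
  obtain rfl : q = 7 := e7.symm
  obtain ⟨hnd, hlen, hp0, hs0, hi7, ht0⟩ := lev2_nodup
  rw [hi7, elWord, ht0, List.append_nil] at e
  have := congrArg Fin.val h1
  rw [e, walk_apply (lt5_of_lt4 (sw_spec hk).1)] at this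
  change tab.walk 1 _ = 1 at this
  rw [(sw_spec hk).2.2.2, ← hp0, List.getD_eq_getElem _ _ (hlen ▸ hk),
    List.getD_eq_getElem _ _ (show 0 < lev2.pts.length by omega), hnd.getElem_inj_iff] at this
  subst this
  rw [e, hs0, act_nil]

/-- Elements that agree on the base are equal. -/
theorem eq_of_base {m n : Hp} (h0 : φ m (pt 0) = φ n (pt 0)) (h7 : φ m (pt 7) = φ n (pt 7))
    (h1 : φ m (pt 1) = φ n (pt 1)) : m = n := by
  refine inv_mul_eq_one.1 (eq_one_of_base ?_ ?_ ?_) <;>
    rw [map_mul, Equiv.Perm.mul_apply, map_inv, Equiv.Perm.inv_def, Equiv.symm_apply_eq]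
  exacts [h0.symm, h7.symm, h1.symm]

theorem φ_injective : Function.Injective φ := fun m n h => eq_of_base (by rw [h]) (by rw [h]) (by rw [h])

/-- Two words act alike on the base. -/
noncomputable def same (u v : List ℕ) : Bool :=
  lettersLt 5 u && lettersLt 5 v &&
    ([0, 7, 1] : List ℕ).all fun p => Nat.beq (tab.walk p u) (tab.walk p v)

theorem same_eq {u v : List ℕ} (h : same u v = true) : act genH u = act genH v := by
  simp only [same, Bool.and_eq_true, List.all_cons, List.all_nil, Bool.and_true, Nat.beq_eq] at h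
  obtain ⟨⟨hu, hv⟩, h0, h7, h1⟩ := h
  refine eq_of_base ?_ ?_ ?_ <;> refine Fin.ext ?_ <;>
    rw [walk_apply (lettersLt_spec hu), walk_apply (lettersLt_spec hv)]
  exacts [h0, h7, h1]

end CfsgLib.RuUniq
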