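import Cfsg.Agent.Lib.RuUniq.HBound

/-!
# Two collinear points lie on a single line

Among the ten points of the smallest nontrivial orbit of a point stabiliser, each is joined to just
one other.
-/

set_option autoImplicit false
set_option maxRecDepth 100000

namespace CfsgLib.RuUniq

open CfsgLib.PresCert

/-- The ten points with words leading to them. -/
def lineData : List (ℕ × List ℕ) :=
  [(39, [4, 0, 3, 4, 1, 2, 4]),
    (177, [4, 3, 0, 4, 2, 1, 4, 1]),
    (764, [4, 3, 4, 2, 4, 2, 4, 3]),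
    (1048, [4, 0, 3, 4, 1, 2, 4, 1]),
    (1073, [4, 0, 3, 4, 1, 2, 4, 0]),
    (1116, [4, 0, 3, 4, 1, 2, 4, 3]),
    (1308, [4, 3, 0, 4, 2, 1, 4]),
    (1420, [4, 3, 0, 4, 2, 1, 4, 0]),
    (1439, [4, 3, 4, 2, 4, 2, 4]),
    (1639, [4, 0, 3, 4, 1, 2, 4, 0, 2])]

/-- The points joined to both ends. -/
noncomputable def joined (u : List ℕ) : List ℕ :=
  (List.range 1755).filter fun q => Nat.beq (labOf q) 1 && Nat.beq (labOf (tab.walk q (wInv u))) 1

/-- The check on the ten points. -/
noncomputable def lineOk : Bool :=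
  (List.range 1755).all fun p => !(Nat.beq (labOf p) 1) || lineData.any fun e =>
    Nat.beq e.1 p && lettersLt 5 e.2 && Nat.beq (tab.walk 0 e.2) p &&
      Nat.ble (joined e.2).length 1

theorem line_ok : lineOk = true := by decide +kernel

theorem line_spec {p : ℕ} (hp : p < 1755) (hl : labOf p = 1) :
    ∃ u : List ℕ, (∀ g ∈ u, g < 5) ∧ tab.walk 0 u = p ∧ (joined u).length ≤ 1 := by
  have h := line_ok
  simp only [lineOk, List.all_eq_true, List.mem_range, Bool.or_eq_true, Bool.not_eq_true',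
    List.any_eq_true, Bool.and_eq_true, Nat.beq_eq, Nat.ble_eq] at h
  rcases h p hp with h | ⟨e, -, ⟨⟨-, h2⟩, h3⟩, h4⟩
  · rw [hl] at h
    exact Bool.noConfusion h
  · exact ⟨e.2, lettersLt_spec h2, h3, h4⟩

end CfsgLib.RuUniq
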