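import Cfsg.Agent.Lib.RuUniq.HBound
import Cfsg.Agent.Lib.RuUniq.CertGCheck
import Cfsg.Agent.Lib.RuUniq.RuModelData
import Cfsg.Agent.Lib.Ru.Group

/-!
# The presented group is the Rudvalis group
-/

set_option autoImplicit false
set_option maxRecDepth 100000

namespace CfsgLib.RuUniq

open CfsgLib.PresCert CfsgLib.Rigid

/-- The code of a word in the two generators. -/
noncomputable def ruWordCode (w : List ℕ) : List ℕ :=
  w.foldr (fun i C => mulF (if i = 0 then RuLattice.cU else RuLattice.cW) C) RuLattice.oneC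

/-- The code of a word in the letters. -/
noncomputable def ruCode (w : List ℕ) : List ℕ :=
  w.reverse.foldr (fun k C => mulF (ruCodes.getD k []) C) RuLattice.oneC

/-- A letter inside the Rudvalis group. -/
noncomputable def ruGen (k : ℕ) : RuLattice.Act :=
  ((ruLetters.getD k []).map fun i => if i = 0 then RuLattice.eU else RuLattice.eW).prod

theorem ru_letters : (List.range 6).all (fun k =>
    ruWordCode (ruLetters.getD k []) == ruCodes.getD k []) = true := by
  decide +kernel

theorem ru_rels : relsG.all (fun w => ruCode w == RuLattice.oneC) = true := by decide +kernel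

theorem ru_inverse : (List.range 4).all (fun k => ruCode [iv k, k] == RuLattice.oneC) = true := by
  decide +kernel

theorem ru_back : lettersLt 6 (ruBack.getD 0 []) = true ∧ lettersLt 6 (ruBack.getD 1 []) = true ∧
    ruCode (ruBack.getD 0 []) = RuLattice.cU ∧ ruCode (ruBack.getD 1 []) = RuLattice.cW := by
  decide +kernel

theorem code_wordProd : ∀ w : List ℕ,
    RuLattice.act.C ((w.map fun i => if i = 0 then RuLattice.eU else RuLattice.eW).prod) =
      ruWordCode w
  | [] => RuLattice.act_one
  | i :: w => by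
    rw [List.map_cons, List.prod_cons, RuLattice.act.mul, code_wordProd w]
    show mulF (RuLattice.act.C (if i = 0 then RuLattice.eU else RuLattice.eW)) _ =
      mulF (if i = 0 then RuLattice.cU else RuLattice.cW) (ruWordCode w)
    split_ifs
    · rw [RuLattice.eUVW.1]
    · rw [RuLattice.eUVW.2.2.1]

theorem code_ruGen {k : ℕ} (hk : k < 6) : RuLattice.act.C (ruGen k) = ruCodes.getD k [] := by
  have h := List.all_eq_true.1 ru_letters k (List.mem_range.2 hk)
  rw [beq_iff_eq] at h
  rw [ruGen, code_wordProd, h]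

theorem code_prod : ∀ L : List ℕ, (∀ k ∈ L, k < 6) →
    RuLattice.act.C (L.map ruGen).prod = L.foldr (fun k C => mulF (ruCodes.getD k []) C) RuLattice.oneC
  | [], _ => RuLattice.act_one
  | k :: L, h => by
    rw [List.map_cons, List.prod_cons, RuLattice.act.mul, code_ruGen (h k List.mem_cons_self),
      code_prod L fun a ha => h a (List.mem_cons_of_mem _ ha), List.foldr_cons]

theorem act_ruGen : ∀ w : List ℕ, act ruGen w = (w.reverse.map ruGen).prod
  | [] => rfl
  | g :: w => by simp [act_cons, act_ruGen w]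

theorem code_act {w : List ℕ} (hw : ∀ k ∈ w, k < 6) :
    RuLattice.act.C (act ruGen w) = ruCode w := by
  rw [act_ruGen, code_prod _ fun k hk => hw k (List.mem_reverse.1 hk), ruCode]

theorem ru_top : Subgroup.closure {RuLattice.eU, RuLattice.eW} = ⊤ := by
  rw [eq_top_iff, ← RuLattice.full_facts.2.1, RuLattice.genSub, Subgroup.closure_le]
  have hU : RuLattice.eU ∈ Subgroup.closure {RuLattice.eU, RuLattice.eW} :=
    Subgroup.subset_closure (Set.mem_insert _ _)
  have hW : RuLattice.eW ∈ Subgroup.closure {RuLattice.eU, RuLattice.eW} :=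
    Subgroup.subset_closure (Set.mem_insert_of_mem _ rfl)
  intro x hx
  simp only [List.mem_cons, List.not_mem_nil, or_false, Set.mem_setOf_eq] at hx
  rcases hx with rfl | rfl | rfl
  · exact hU
  · refine (Subgroup.closure_le _).2 ?_ RuLattice.eUVW.2.2.2.1
    rintro y (rfl | rfl)
    · exact hU
    · exact mul_mem (mul_mem hW hU) hW
  · exact hW

theorem gp_le : Finite Gp ∧ Nat.card Gp ≤ 4060 * 35942400 := by
  obtain ⟨ι, hι⟩ := exists_homH genG (fun g hg => genG_inv g (by omega)) fun w hw =>
    relsG_act (List.mem_append_left _ (List.mem_append_left _ hw))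
  have e : ι.range = genGrp [[0], [2], [4]] genG := by
    refine le_antisymm ?_ ((Subgroup.closure_le _).2 ?_)
    · rw [MonoidHom.range_eq_map, ← genH_top, MonoidHom.map_closure, Subgroup.closure_le]
      rintro _ ⟨_, ⟨g, hg, rfl⟩, rfl⟩
      rw [SetLike.mem_coe, hι g hg]
      have h0 : ∀ k, [k] ∈ ([[0], [2], [4]] : List (List ℕ)) → genG k ∈ genGrp [[0], [2], [4]] genG :=
        fun k hk => Subgroup.subset_closure ⟨[k], hk, act_one_letter k⟩
      interval_cases g
      · exact h0 0 (by simp)
      · rw [show genG 1 = (genG 0)⁻¹ by simp [genG, freeG]]; exact inv_mem (h0 0 (by simp))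
      · exact h0 2 (by simp)
      · rw [show genG 3 = (genG 2)⁻¹ by simp [genG, freeG]]; exact inv_mem (h0 2 (by simp))
      · exact h0 4 (by simp)
    · rintro _ ⟨w, hw, rfl⟩
      obtain ⟨k, hk, rfl⟩ : ∃ k, k < 5 ∧ w = [k] := by
        fin_cases hw <;> exact ⟨_, by norm_num, rfl⟩
      exact ⟨genH k, (hι k hk).trans (act_one_letter k).symm⟩
  haveI : Finite (genGrp [[0], [2], [4]] genG) := e ▸ Finite.of_surjective _ ι.rangeRestrict_surjective
  have hK : Nat.card (genGrp [[0], [2], [4]] genG) ≤ 35942400 := by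
    rw [← e, ← card_hp]
    exact Nat.card_le_card_of_surjective _ ι.rangeRestrict_surjective
  obtain ⟨c1, c2, c3, c4⟩ := certG_words
  have H : Paired.PairHyp certG iv genG ((1 : Gp) : Gp ⧸ genGrp [[0], [2], [4]] genG) :=
    Paired.pairHyp_of_hints (fun g hg => genG_inv g (by rw [c4] at hg; exact hg))
      (fun w hw => relsG_act hw) (fun w hw => fix_coset hw) c1 c2
  obtain ⟨f1, f2⟩ := Paired.card_le hK certG_closed H
  have e' : genGrp [[0], [1], [2], [3], [4], [5]] genG = ⊤ := genGrp_letters (n := 6) genG genG_top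
  rw [e'] at f1 f2
  rw [Subgroup.card_top] at f2
  exact ⟨Finite.of_equiv _ Subgroup.topEquiv.toEquiv, f2.trans (by rw [c3])⟩

instance finite_gp : Finite Gp := gp_le.1

theorem gp_ru : Nat.card Gp = 145926144000 ∧ Nonempty (Gp ≃* Cfsg.Spor.Ru) := by
  obtain ⟨-, -, hinj⟩ := RuLattice.full_facts
  obtain ⟨ψ, hψ⟩ := exists_homG ruGen (fun g hg => by
    have h := List.all_eq_true.1 ru_inverse g (List.mem_range.2 hg)
    rw [beq_iff_eq] at h
    have e : act ruGen [iv g, g] = 1 := hinj (by
      rw [RuLattice.act_one, ← h]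
      refine code_act ?_
      have := iv_lt4 hg
      simp only [List.mem_cons, List.not_mem_nil, or_false]
      rintro k (rfl | rfl) <;> omega)
    rwa [act_cons, act_one_letter] at e) fun w hw => by
    have h := List.all_eq_true.1 ru_rels w hw
    rw [beq_iff_eq] at h
    exact hinj (by rw [RuLattice.act_one, ← h]; exact code_act (relsG_lt hw))
  obtain ⟨l0, l1, b0, b1⟩ := ru_back
  have himg : ∀ (w : List ℕ) (x : RuLattice.Act), lettersLt 6 w = true →
      RuLattice.act.C x = ruCode w → x ∈ ψ.range := fun w x hw hx =>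
    ⟨act genG w, by
      rw [map_act, act_congr' fun a ha => hψ a (lettersLt_spec hw a ha)]
      exact hinj (by rw [hx]; exact code_act (lettersLt_spec hw))⟩
  have hsurj : Function.Surjective ψ := by
    rw [← MonoidHom.range_eq_top, eq_top_iff, ← ru_top, Subgroup.closure_le]
    rintro x (rfl | rfl)
    · exact himg _ _ l0 (RuLattice.eUVW.1.trans b0.symm)
    · exact himg _ _ l1 (RuLattice.eUVW.2.2.1.trans b1.symm)
  have hle := Nat.card_le_card_of_surjective _ hsurj
  have hc := RuLattice.cards.1
  have h2 := gp_le.2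
  have hcard : Nat.card Gp = 145926144000 := by omega
  exact ⟨hcard, ⟨(MulEquiv.ofBijective ψ ((Nat.bijective_iff_surjective_and_card _).2
    ⟨hsurj, hcard.trans hc.symm⟩)).trans RuLattice.ruEquiv.symm⟩⟩

end CfsgLib.RuUniq
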