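import Cfsg.Agent.Lib.RuUniq.Edge
import Cfsg.Agent.Lib.RuUniq.Classify

/-!
# The relations of a flag
-/

set_option autoImplicit false
set_option maxRecDepth 100000

namespace CfsgLib.RuUniq

open CfsgLib.PresCert MulAction

variable {G Ω : Type*} [Group G] [MulAction G Ω] (E : Edge G Ω)

/-- The generators of the group. -/
def gensAt (g : G) (k : ℕ) : G := if k = 5 then g else E.ι (genH k)

theorem gensAt_low {g : G} {w : List ℕ} (hw : ∀ a ∈ w, a < 5) :
    act (gensAt E g) w = E.ι (act genH w) := by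
  rw [map_act]
  exact act_congr' fun a ha => if_neg (by have := hw a ha; omega)

theorem gensAt_five (g : G) : gensAt E g 5 = g := if_pos rfl

theorem gensAt_inv (g : G) : ∀ k, k < 4 → gensAt E g k * gensAt E g (iv k) = 1 := fun k hk => by
  have h := iv_lt4 hk
  rw [gensAt, gensAt, if_neg (by omega), if_neg (by omega), ← map_mul, genH_inv k (by omega),
    map_one]

theorem h_swap : (tab.img 4 0 = 789 ∧ tab.img 4 789 = 0) := by decide +kernel

theorem relsB_shape : relsB = relsH ++ relsA ++ [[4, 5, 4, 5, 4, 5] ++ wInv (lwWord 27)] ∧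
    relsG = relsH ++ relsA ++ [[4, 5, 4, 5, 4, 5]] ∧
    relsA = [[5, 5], [5, 0, 5] ++ wInv (repXW 3), [5, 2, 5] ++ wInv (repYW 3)] ∧
    cubeList.getD 3 [] = [0, 27] ∧ lwWord 0 = [] ∧ lettersLt 4 (repXW 3) = true ∧
    lettersLt 4 (repYW 3) = true := by
  decide +kernel

theorem rep_lt : ∀ r, r < 4 → lettersLt 4 (repXW r) = true ∧ lettersLt 4 (repYW r) = true := by
  decide +kernel

theorem lw_spec {l : ℕ} (hl : l < 32) : (∀ g ∈ lwWord l, g < 4) ∧ tab.walk 0 (lwWord l) = 0 ∧
    tab.walk 789 (lwWord l) = 789 ∧ betaList.getD l 0 < 32 ∧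
    act genH ([4] ++ lwWord l ++ [4]) = act genH (lwWord (betaList.getD l 0)) := by
  have h := lw_ok
  simp only [lwOk, List.all_eq_true, List.mem_range, Bool.and_eq_true, Nat.beq_eq,
    Nat.blt_eq] at h
  obtain ⟨⟨⟨⟨h1, h2⟩, h3⟩, h4⟩, h5⟩ := h l hl
  refine ⟨lettersLt_spec h1, h2, h3, ?_, same_eq h5⟩
  have hlen : betaList.length = 32 := by decide +kernel
  rw [List.getD_eq_getElem _ _ (hlen ▸ hl)] at h4 ⊢
  exact h4

theorem gam_spec {r l : ℕ} (hr : r < 4) (hl : l < 32) : gamAt r l < 32 ∧
    act genH (subst (repXW r) (repYW r) (lwWord (betaList.getD l 0))) =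
      act genH (lwWord (gamAt r l)) := by
  have h := gam_ok
  simp only [gamOk, List.all_eq_true, List.mem_range, Bool.and_eq_true, Nat.blt_eq] at h
  exact ⟨(h r hr l hl).1, same_eq (h r hr l hl).2⟩

/-- The elements fixing the triangle. -/
theorem tri_list {m : Hp} (hm : m ∈ subP) (hd : φ m (pt 789) = pt 789) :
    ∃ l < 32, m = act genH (lwWord l) := by
  obtain ⟨q, k, hq, hl, hk, e, -⟩ := elWord_eq hm
  have h := tri_row_all hk
  simp only [triRows, List.all_eq_true, List.mem_range, Bool.or_eq_true, Bool.not_eq_true',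
    List.any_eq_true] at h
  rcases h q hq with (h | h) | ⟨l, hl', h⟩
  · rw [show Nat.beq (labOf q) 4 = true from Nat.beq_eq.mpr hl] at h
    exact Bool.noConfusion h
  · have : tab.walk 789 (elQ k q) = 789 := by
      rw [fix_apply (lt_five (elQ_lt hk hq hl)) (by norm_num), ← e]
      exact hd
    rw [show Nat.beq (tab.walk 789 (elQ k q)) 789 = true from Nat.beq_eq.mpr this] at h
    exact Bool.noConfusion h
  · exact ⟨l, hl', e.trans (same_eq h)⟩

theorem Edge.h_bd : E.ι (genH 4) • E.b = E.d ∧ E.ι (genH 4) • E.d = E.b := by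
  constructor
  · rw [Edge.b, Edge.d, E.equiv, φ_gen (by norm_num)]
    exact congrArg E.θ (Fin.ext ((permOf_apply (by norm_num) _).trans h_swap.1))
  · rw [Edge.b, Edge.d, E.equiv, φ_gen (by norm_num)]
    exact congrArg E.θ (Fin.ext ((permOf_apply (by norm_num) _).trans h_swap.2))

theorem not_bad (g : G) (hga : g • E.a = E.b) : ¬ ∀ w ∈ relsB, act (gensAt E g) w = 1 := by
  intro hrel
  obtain ⟨c1, c2, c3, c4⟩ := certB_words
  have hsq : ∀ k, k < 6 → gensAt E g k * gensAt E g (iv k) = 1 := by
    intro k hk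
    rcases lt_or_ge k 4 with h | h
    · exact gensAt_inv E g k h
    interval_cases k
    · have h := hrel [4, 4] (relsB_shape.1 ▸
        List.mem_append_left _ (List.mem_append_left _ four_mem.1))
      rwa [act_cons, act_one_letter] at h
    · have h := hrel [5, 5] (by rw [relsB_shape.1, relsB_shape.2.2.1]; simp)
      rwa [act_cons, act_one_letter] at h
  let X := G ⧸ E.ι.range
  have H : Paired.PairHyp certB iv (gensAt E g) ((1 : G) : X) := by
    refine Paired.pairHyp_of_hints (fun k hk => hsq k (c4 ▸ hk)) hrel (fun w hw => ?_) c1 c2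
    have hw5 : ∀ a ∈ w, a < 5 := by fin_cases hw <;> simp
    rw [gensAt_low E hw5, MulAction.Quotient.smul_coe, smul_eq_mul, mul_one, QuotientGroup.eq,
      mul_one]
    exact inv_mem ⟨_, rfl⟩
  obtain ⟨j, hj, e⟩ := Paired.orbit_mem certB_closed H
    (m := g) (Subgroup.subset_closure ⟨[5], by simp, by rw [act_one_letter, gensAt_five]⟩)
  obtain ⟨j', hj', e'⟩ := Paired.orbit_mem certB_closed H (m := (1 : G)) (Subgroup.one_mem _)
  obtain rfl : j = j' := by omega
  rw [← e', one_smul, MulAction.Quotient.smul_coe, smul_eq_mul, mul_one, QuotientGroup.eq,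
    mul_one, inv_mem_iff] at e
  exact E.b_ne (hga ▸ (E.range g).2 e)

/-- A flag satisfying all the relations. -/
theorem exists_gen :
    ∃ g : G, g • E.a = E.b ∧ ∀ w ∈ relsG, act (gensAt E g) w = 1 := by
  obtain ⟨g0, h0a, h0b, h0d⟩ := exists_flag E
  have h0a' : g0⁻¹ • E.b = E.a := by rw [inv_smul_eq_iff, h0a]
  have h0b' : g0⁻¹ • E.a = E.b := by rw [inv_smul_eq_iff, h0b]
  have h0d' : g0⁻¹ • E.d = E.d := by rw [inv_smul_eq_iff, h0d]
  have hex : ∀ m : subP, ∃ n, n ∈ subP ∧ g0 * E.ι m.1 * g0⁻¹ = E.ι n := fun m =>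
    E.mem_edge (by rw [mul_smul, mul_smul, h0b', E.fix_b.2 m.2, h0b])
      (by rw [mul_smul, mul_smul, h0a', E.fix_a, h0a])
  choose fn hfn hfne using hex
  let α : subP →* Hp :=
    { toFun := fn
      map_one' := E.inj (by rw [← hfne, map_one, OneMemClass.coe_one, map_one]; group)
      map_mul' := fun m n => E.inj (by
        rw [map_mul, ← hfne, ← hfne, ← hfne, Subgroup.coe_mul, map_mul]; group) }
  have hα : ∀ m : subP, E.ι (α m) = g0 * E.ι m.1 * g0⁻¹ := fun m => (hfne m).symm
  have hαinj : Function.Injective α := fun m n h => by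
    have := congrArg E.ι h
    rw [hα, hα] at this
    exact Subtype.ext (E.inj (mul_left_cancel (mul_right_cancel this)))
  have hαL : ∀ m : subP, φ m.1 (pt 789) = pt 789 → φ (α m) (pt 789) = pt 789 := fun m hm => by
    rw [← E.fix_d, hα, mul_smul, mul_smul, h0d', E.fix_d.2 hm, h0d]
  obtain ⟨l, hlP, hl789, r, hr, hX, hY⟩ := classify α hαinj hfn hαL
  obtain ⟨g, hgdef⟩ : ∃ g, g = (E.ι l)⁻¹ * g0 := ⟨_, rfl⟩
  have hla : (E.ι l)⁻¹ • E.a = E.a := by rw [inv_smul_eq_iff, E.fix_a]
  have hlb : (E.ι l)⁻¹ • E.b = E.b := by rw [inv_smul_eq_iff, E.fix_b.2 hlP]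
  have hld : (E.ι l)⁻¹ • E.d = E.d := by rw [inv_smul_eq_iff, E.fix_d.2 hl789]
  have hga : g • E.a = E.b := by rw [hgdef, mul_smul, h0a, hlb]
  have hgb : g • E.b = E.a := by rw [hgdef, mul_smul, h0b, hla]
  have hgd : g • E.d = E.d := by rw [hgdef, mul_smul, h0d, hld]
  let α' : subP →* Hp := (MulAut.conj l⁻¹).toMonoidHom.comp α
  have hα' : ∀ m : subP, E.ι (α' m) = g * E.ι m.1 * g⁻¹ := fun m => by
    rw [show α' m = l⁻¹ * α m * (l⁻¹)⁻¹ from rfl, inv_inv, map_mul, map_mul, map_inv, hα, hgdef]
    group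
  obtain ⟨hrX, hrY⟩ := rep_lt r hr
  have hrX' := lettersLt_spec hrX
  have hrY' := lettersLt_spec hrY
  have hhom := fun (w : List ℕ) (hw : ∀ a ∈ w, a < 4) => hom_subst α' hrX' hrY'
    (by show l⁻¹ * α _ * (l⁻¹)⁻¹ = _; rw [hX]; group)
    (by show l⁻¹ * α _ * (l⁻¹)⁻¹ = _; rw [hY]; group) hw
  have hconj : ∀ (w : List ℕ), (∀ a ∈ w, a < 4) →
      g * E.ι (act genH w) * g⁻¹ = E.ι (act genH (subst (repXW r) (repYW r) w)) := fun w hw => by
    rw [← hhom w hw, hα']
  obtain ⟨hbd, hdb⟩ := E.h_bd
  have hh : E.ι (genH 4) * E.ι (genH 4) = 1 := by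
    rw [← map_mul, show genH 4 * genH 4 = 1 from genH_inv 4 (by norm_num), map_one]
  obtain ⟨t, ht⟩ : ∃ t, t = g * E.ι (genH 4) := ⟨_, rfl⟩
  have ht3 : (t * t * t) • E.a = E.a ∧ (t * t * t) • E.b = E.b ∧ (t * t * t) • E.d = E.d := by
    simp only [ht, mul_smul, E.fix_a, hga, hgb, hgd, hbd, hdb, and_self]
  obtain ⟨z, hzP, hz⟩ := E.mem_edge ht3.1 ht3.2.1
  obtain ⟨n, hn, hzn⟩ := tri_list hzP (E.fix_d.1 (hz ▸ ht3.2.2))
  have hrot : ∀ j, j < 32 →
      t * E.ι (act genH (lwWord j)) * t⁻¹ = E.ι (act genH (lwWord (gamAt r j))) := by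
    intro j hj
    obtain ⟨hj4, -, -, hb, hbeta⟩ := lw_spec hj
    rw [← (gam_spec hr hj).2, ← hconj _ (lw_spec hb).1, ← hbeta, act_append, act_append,
      act_one_letter, map_mul, map_mul, ht, mul_inv_rev, inv_eq_of_mul_eq_one_right hh]
    group
  have hfixn : act genH (lwWord (gamAt r n)) = act genH (lwWord n) := by
    refine E.inj ?_
    rw [← hrot n hn, ← hzn, ← hz]
    group
  have htriple : ∀ j, j < 32 → act genH (conjW (lwWord n) (lwWord j)) =
      act genH (lwWord (gamAt r (gamAt r (gamAt r j)))) := by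
    intro j hj
    have h1 := (gam_spec hr hj).1
    have h2 := (gam_spec hr h1).1
    refine E.inj ?_
    rw [conjW_act (lw_spec hn).1, ← hrot _ h2, ← hrot _ h1, ← hrot _ hj, ← hzn, map_mul, map_mul,
      map_inv, ← hz]
    group
  have hcube : n ∈ cubeList.getD r [] := by
    have h := cube_ok
    simp only [cubeOk, List.all_eq_true, List.mem_range, Bool.or_eq_true, Bool.not_eq_true',
      List.contains_iff_mem] at h
    rcases h r hr n hn with (h | h) | h
    · rw [same_of_eq hfixn (lt_five (lw_spec (gam_spec hr hn).1).1) (lt_five (lw_spec hn).1)] at h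
      exact Bool.noConfusion h
    · exfalso
      have : ((List.range 32).all fun j => same (conjW (lwWord n) (lwWord j))
          (lwWord (gamAt r (gamAt r (gamAt r j))))) = true := by
        rw [List.all_eq_true]
        intro j hj
        rw [List.mem_range] at hj
        refine same_of_eq (htriple j hj) (lt_five (lt_append (lt_append
          (wInv_lt (fun _ h => iv_lt4 h) (lw_spec hn).1) (lw_spec hj).1) (lw_spec hn).1))
          (lt_five (lw_spec (gam_spec hr (gam_spec hr (gam_spec hr hj).1).1).1).1)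
      rw [this] at h
      exact Bool.noConfusion h
    · exact h
  obtain ⟨hc0, hc1, hc2, -, -⟩ := cube_vals
  obtain rfl : r = 3 := by
    interval_cases r
    · rw [hc0] at hcube; exact absurd hcube List.not_mem_nil
    · rw [hc1] at hcube; exact absurd hcube List.not_mem_nil
    · rw [hc2] at hcube; exact absurd hcube List.not_mem_nil
    · rfl
  obtain ⟨sB, sG, sA, sC, sL, -, -⟩ := relsB_shape
  -- the square
  have hg2 : g * g = 1 := by
    obtain ⟨z2, hz2P, hz2⟩ := E.mem_edge (g := g * g)
      (by rw [mul_smul, hga, hgb]) (by rw [mul_smul, hgb, hga])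
    obtain ⟨n2, hn2, hzn2⟩ := tri_list hz2P (E.fix_d.1 (by rw [← hz2, mul_smul, hgd, hgd]))
    have hc : ∀ (c : ℕ) (hc : c < 4) (w : List ℕ), (∀ a ∈ w, a < 4) →
        g * E.ι (genH c) * g⁻¹ = E.ι (act genH w) →
        same (conjW (lwWord n2) [c]) (subst (repXW 3) (repYW 3) w) = true := by
      intro c hc w hw he
      refine same_of_eq (E.inj ?_) (lt_five (lt_append (lt_append (wInv_lt (fun _ h => iv_lt4 h)
        (lw_spec hn2).1) (by simpa using hc)) (lw_spec hn2).1))
        (lt_five (lt_subst (fun _ h => iv_lt4 h) hrX' hrY' w))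
      rw [← hconj w hw, ← he, conjW_act (lw_spec hn2).1, act_one_letter, map_mul, map_mul, map_inv,
        ← hzn2, ← hz2]
      group
    have h := square_ok
    simp only [squareOk, List.all_eq_true, List.mem_range, Bool.or_eq_true,
      Bool.not_eq_true'] at h
    rcases h n2 hn2 with (h | h) | h
    · rw [hc 0 (by norm_num) _ hrX' (by
        have := hconj [0] (by simp)
        rwa [act_one_letter, subst, expand, List.flatMap_cons, List.flatMap_nil,
          List.append_nil] at this)] at h
      exact Bool.noConfusion h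
    · rw [hc 2 (by norm_num) _ hrY' (by
        have := hconj [2] (by simp)
        rwa [act_one_letter, subst, expand, List.flatMap_cons, List.flatMap_nil,
          List.append_nil] at this)] at h
      exact Bool.noConfusion h
    · rw [hz2, hzn2, same_eq h, act_nil, map_one]
  have hbase : ∀ w ∈ relsH ++ relsA, act (gensAt E g) w = 1 := by
    intro w hw
    rcases List.mem_append.1 hw with hw | hw
    · rw [gensAt_low E (relsH_lt hw), relsH_act hw, map_one]
    · rw [sA] at hw
      have key : ∀ (c : ℕ) (u : List ℕ), c < 4 → (∀ a ∈ u, a < 4) →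
          g * E.ι (genH c) * g⁻¹ = E.ι (act genH u) →
          act (gensAt E g) ([5, c, 5] ++ wInv u) = 1 := by
        intro c u hc hu he
        rw [act_append, gensAt_low E (lt_five (wInv_lt (fun _ h => iv_lt4 h) hu)),
          act_inv genH_inv4 hu, map_inv, ← he, act_cons, act_cons, act_one_letter, gensAt_five,
          gensAt, if_neg (by omega), inv_mul_eq_one, inv_eq_of_mul_eq_one_right hg2, mul_assoc]
      simp only [List.mem_cons, List.not_mem_nil, or_false] at hw
      rcases hw with rfl | rfl | rfl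
      · rw [act_cons, act_one_letter, gensAt_five, hg2]
      · refine key 0 _ (by norm_num) hrX' ?_
        have := hconj [0] (by simp)
        rwa [act_one_letter, subst, expand, List.flatMap_cons, List.flatMap_nil,
          List.append_nil] at this
      · refine key 2 _ (by norm_num) hrY' ?_
        have := hconj [2] (by simp)
        rwa [act_one_letter, subst, expand, List.flatMap_cons, List.flatMap_nil,
          List.append_nil] at this
  have h45 : act (gensAt E g) [4, 5, 4, 5, 4, 5] = E.ι (act genH (lwWord n)) := by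
    rw [← hzn, ← hz, ht]
    simp only [act_cons, act_nil, one_mul, gensAt_five]
    rw [gensAt, if_neg (by norm_num)]
    simp only [mul_assoc]
  rw [sC] at hcube
  simp only [List.mem_cons, List.not_mem_nil, or_false] at hcube
  rcases hcube with rfl | rfl
  · refine ⟨g, hga, fun w hw => ?_⟩
    rw [sG] at hw
    rcases List.mem_append.1 hw with hw | hw
    · exact hbase w hw
    · rw [List.mem_singleton.1 hw, h45, sL, act_nil, map_one]
  · refine absurd (fun w hw => ?_) (not_bad E g hga)
    rw [sB] at hw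
    rcases List.mem_append.1 hw with hw | hw
    · exact hbase w hw
    · rw [List.mem_singleton.1 hw, act_append,
        gensAt_low E (lt_five (wInv_lt (fun _ h => iv_lt4 h) (lw_spec hn).1)),
        act_inv genH_inv4 (lw_spec hn).1, map_inv, h45, inv_mul_cancel]

end CfsgLib.RuUniq
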