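import Cfsg.Agent.Lib.RuUniq.HBound
import Cfsg.Agent.Lib.RuUniq.TwistData
import Cfsg.Agent.Lib.Chev.Twist.TitsSimple

/-!
# The presented stabiliser is the group of type ²F₄ over the field with two elements
-/

set_option autoImplicit false
set_option maxRecDepth 100000

namespace CfsgLib.RuUniq

open CfsgLib.PresCert CfsgLib.Chev.TwF4 Bin Cfsg.Lie

/-- A letter inside the group. -/
noncomputable def twGen (k : ℕ) : ↥Tits.G := Tits.gw (twLetters.getD k [])

/-- The matrix of a word. -/
def twCode (w : List ℕ) : List ℕ := prodC (w.reverse.map fun k => twMats.getD k [])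

theorem tw_letters : (List.range 5).all (fun k =>
    rootsC (Tits.wordR (twLetters.getD k [])) == twMats.getD k []) = true := by
  decide +kernel

theorem tw_rels : relsH.all (fun w => twCode w == oneC) = true := by decide +kernel

theorem tw_inverse : (List.range 4).all (fun k => twCode [iv k, k] == oneC) = true := by
  decide +kernel

theorem tw_back : (List.range 6).all (fun k => lettersLt 5 (twBack.getD k []) &&
    (if h : k < 6 then twCode (twBack.getD k []) == rootsC (Tits.genR ⟨k, h⟩) else false)) =
      true := by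
  decide +kernel

theorem enc_twGen {k : ℕ} (hk : k < 5) :
    Enc ((twGen k : ↥Tits.G) : GL chevF4.Idx (ZMod 2)) (twMats.getD k []) := by
  have h := List.all_eq_true.1 tw_letters k (List.mem_range.2 hk)
  rw [beq_iff_eq] at h
  rw [← h, twGen, Tits.gw_val]
  exact rootsU_enc _ (Tits.wordR_ok _)

theorem enc_prod : ∀ L : List ℕ, (∀ k ∈ L, k < 5) →
    Enc (((L.map twGen).prod : ↥Tits.G) : GL chevF4.Idx (ZMod 2))
      (prodC (L.map fun k => twMats.getD k []))
  | [], _ => by simpa [prodC] using enc_one
  | k :: L, h => by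
    simp only [List.map_cons, List.prod_cons, Subgroup.coe_mul, Units.val_mul, prodC]
    exact enc_mul (enc_twGen (h k List.mem_cons_self))
      (enc_prod L fun a ha => h a (List.mem_cons_of_mem _ ha))

theorem act_prod {M : Type*} [Group M] (f : ℕ → M) :
    ∀ w : List ℕ, act f w = (w.reverse.map f).prod
  | [] => rfl
  | g :: w => by simp [act_cons, act_prod f w]

theorem enc_act {w : List ℕ} (hw : ∀ k ∈ w, k < 5) :
    Enc ((act twGen w : ↥Tits.G) : GL chevF4.Idx (ZMod 2)) (twCode w) := by
  rw [act_prod]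
  exact enc_prod _ fun k hk => hw k (List.mem_reverse.1 hk)

theorem eq_of_code {a b : ↥Tits.G} {A : List ℕ} (ha : Enc (a : GL chevF4.Idx (ZMod 2)) A)
    (hb : Enc (b : GL chevF4.Idx (ZMod 2)) A) : a = b :=
  Subtype.ext (Units.ext (enc_inj ha hb))

theorem enc_id : Enc ((1 : ↥Tits.G) : GL chevF4.Idx (ZMod 2)) oneC := by simpa using enc_one

theorem hp_twisted : Nonempty (Hp ≃* Cfsg.Lie.twistedF4 (ZMod 2) 1) := by
  obtain ⟨ψ, hψ⟩ := exists_homH twGen (fun g hg => by
    have h := List.all_eq_true.1 tw_inverse g (List.mem_range.2 hg)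
    rw [beq_iff_eq] at h
    have e := eq_of_code (enc_act (w := [iv g, g]) (by
      have := iv_lt4 hg
      simp only [List.mem_cons, List.not_mem_nil, or_false]
      rintro k (rfl | rfl) <;> omega)) (h ▸ enc_id)
    rwa [act_cons, act_one_letter] at e) fun w hw => by
    have h := List.all_eq_true.1 tw_rels w hw
    rw [beq_iff_eq] at h
    exact eq_of_code (enc_act (relsH_lt hw)) (h ▸ enc_id)
  have hgk : ∀ k : Fin 6, Tits.gk k ∈ ψ.range := by
    intro k
    have h := List.all_eq_true.1 tw_back k.val (List.mem_range.2 k.isLt)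
    simp only [dif_pos k.isLt, Bool.and_eq_true, beq_iff_eq] at h
    refine ⟨act genH (twBack.getD k.val []), eq_of_code (A := rootsC (Tits.genR k)) ?_ ?_⟩
    · rw [map_act, act_congr' fun a ha => hψ a (lettersLt_spec h.1 a ha)]
      exact h.2 ▸ enc_act (lettersLt_spec h.1)
    · exact rootsU_enc _ (Tits.genR_ok k)
  have hsurj : Function.Surjective ψ := by
    rw [← MonoidHom.range_eq_top, eq_top_iff, ← Tits.closure_gk, Subgroup.closure_le]
    rintro _ ⟨k, rfl⟩
    exact hgk k
  have hcard : Nat.card Hp = Nat.card ↥Tits.G := by rw [card_hp, Tits.card_G]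
  exact ⟨MulEquiv.ofBijective ψ
    ((Nat.bijective_iff_surjective_and_card _).2 ⟨hsurj, hcard⟩)⟩

end CfsgLib.RuUniq
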