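import Cfsg.Agent.Lib.RuUniq.Stab
import Cfsg.Agent.Lib.RuUniq.Triangle
import Cfsg.Agent.Lib.RuUniq.RuModel
import Cfsg.Agent.Lib.RuUniq.Twist

/-!
# The rank three group on 4060 points with the given point stabiliser
-/

set_option autoImplicit false
set_option maxRecDepth 100000

namespace CfsgLib.RuUniq

open CfsgLib.PresCert MulAction

variable {G Ω : Type*} [Group G] [MulAction G Ω]

/-- The three suborbits give an edge. -/
theorem exists_edge (ι : Hp →* G) (hι : Function.Injective ι) (a b c : Ω)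
    (hcard : Nat.card Ω = 4060) (hfaith : ∀ g : G, (∀ x : Ω, g • x = x) → g = 1)
    (htrans : ∀ p q : Ω, ∃ g : G, g • p = q) (hrange : ∀ g : G, g • a = a ↔ g ∈ ι.range)
    (hb : (orbit (stabilizer G a) b).ncard = 1755) (hc : (orbit (stabilizer G a) c).ncard = 2304) :
    Nonempty (Edge G Ω) := by
  classical
  haveI : Finite Ω := Nat.finite_of_card_ne_zero (by rw [hcard]; norm_num)
  letI : MulAction Hp Ω := MulAction.compHom _ ι
  have horb : ∀ x : Ω, orbit (stabilizer G a) x = orbit Hp x := by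
    intro x
    ext y
    constructor
    · rintro ⟨g, rfl⟩
      obtain ⟨k, hk⟩ := (hrange g.1).1 g.2
      exact ⟨k, by show ι k • x = _; rw [hk]; rfl⟩
    · rintro ⟨k, rfl⟩
      exact ⟨⟨ι k, (hrange _).2 ⟨k, rfl⟩⟩, rfl⟩
  have hone : orbit (stabilizer G a) a = {a} := by
    ext y
    exact ⟨fun ⟨g, hg⟩ => hg ▸ g.2, fun h => by
      rw [Set.mem_singleton_iff.1 h]; exact mem_orbit_self a⟩
  rw [horb] at hb hc hone
  have hX : Nat.card (stabilizer Hp b) = 20480 := by
    have h := Nat.card_congr (orbitProdStabilizerEquivGroup Hp b)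
    rw [Nat.card_prod, Nat.card_coe_set_eq, hb, card_hp] at h
    omega
  obtain ⟨m, hm⟩ := conj_subP (stabilizer Hp b) hX
  obtain ⟨b', hb'⟩ : ∃ b', b' = m⁻¹ • b := ⟨_, rfl⟩
  have hst : ∀ x : Hp, x • b' = b' ↔ x ∈ subP := fun x => by
    rw [hm, mem_stabilizer_iff, hb', mul_smul, mul_smul, eq_inv_smul_iff]
  have hob : orbit Hp b' = orbit Hp b := by rw [hb', orbit_eq_iff]; exact mem_orbit _ _
  choose tr htr using trans_φ
  have hθ : ∀ k : Hp, k • b' = tr (φ k (pt 0)) • b' := fun k => by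
    rw [← inv_smul_eq_iff, ← mul_smul, hst, mem_subP, map_mul, Equiv.Perm.mul_apply, map_inv,
      Equiv.Perm.inv_def, Equiv.symm_apply_eq, htr]
  have hθinj : Function.Injective fun i => tr i • b' := fun i j h => by
    have h' : ((tr j)⁻¹ * tr i) • b' = b' := by
      rw [mul_smul, inv_smul_eq_iff]; exact h
    rw [hst, mem_subP, map_mul, Equiv.Perm.mul_apply, htr, map_inv, Equiv.Perm.inv_def,
      Equiv.symm_apply_eq, htr] at h'
    exact h'
  have hrng : Set.range (fun i => tr i • b') = orbit Hp b := by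
    rw [← hob]
    refine Set.Subset.antisymm (fun _ ⟨i, hi⟩ => hi ▸ mem_orbit _ _) ?_
    rintro _ ⟨k, rfl⟩
    exact ⟨φ k (pt 0), (hθ k).symm⟩
  have haB : a ∉ orbit Hp b := fun h => by
    rw [← orbit_eq_iff.2 h, hone, Set.ncard_singleton] at hb
    omega
  have haC : a ∉ orbit Hp c := fun h => by
    rw [← orbit_eq_iff.2 h, hone, Set.ncard_singleton] at hc
    omega
  have hBC : Disjoint (orbit Hp b) (orbit Hp c) := by
    refine Set.disjoint_left.2 fun x h1 h2 => ?_
    rw [← orbit_eq_iff.2 h1, orbit_eq_iff.2 h2, hc] at hb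
    omega
  have hall : ∀ x : Ω, x ≠ a → x ∉ orbit Hp b → x ∈ orbit Hp c := by
    intro x hxa hxb
    by_contra hxc
    have hd : Disjoint ({a, x} : Set Ω) (orbit Hp b ∪ orbit Hp c) := by
      rw [Set.disjoint_left]
      rintro y (rfl | rfl) <;> simp_all
    have h1 := Set.ncard_union_eq hd
    rw [Set.ncard_union_eq hBC, Set.ncard_pair (Ne.symm hxa), hb, hc] at h1
    have h2 := Set.ncard_le_card ({a, x} ∪ (orbit Hp b ∪ orbit Hp c) : Set Ω)
    rw [hcard] at h2
    omega
  refine ⟨{
    a := a, θ := fun i => tr i • b', ι := ι, inj := hι, θinj := hθinj, card := hcard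
    faithful := hfaith, trans := htrans, range := hrange
    equiv := fun k i => ?_, a_out := fun i h => haB ?_, rest := fun p q hp hp' hq hq' => ?_ }⟩
  · show k • tr i • b' = tr (φ k i) • b'
    rw [← mul_smul, hθ, map_mul, Equiv.Perm.mul_apply, htr]
  · rw [← hrng]
    exact ⟨i, h⟩
  · rw [hrng] at hp' hq'
    have h1 := hall p hp hp'
    have h2 := hall q hq hq'
    rw [← orbit_eq_iff.2 h1] at h2
    exact h2

/-- An edge determines the group. -/
theorem iso_ru (E : Edge G Ω) : Nonempty (G ≃* Cfsg.Spor.Ru) := by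
  classical
  haveI := E.finite
  obtain ⟨g, hga, hrel⟩ := exists_gen E
  obtain ⟨ψ, hψ⟩ := exists_homG (gensAt E g) (gensAt_inv E g) hrel
  have hι : ∀ m : Hp, E.ι m ∈ ψ.range := by
    intro m
    have h : m ∈ Subgroup.closure {m | ∃ k < 5, genH k = m} := genH_top ▸ Subgroup.mem_top m
    have hle : Subgroup.closure {m | ∃ k < 5, genH k = m} ≤ ψ.range.comap E.ι := by
      refine (Subgroup.closure_le _).2 ?_
      rintro _ ⟨k, hk, rfl⟩
      exact ⟨genG k, (hψ k (by omega)).trans (if_neg (by omega))⟩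
    exact hle h
  have hg : g ∈ ψ.range := ⟨genG 5, (hψ 5 (by norm_num)).trans (gensAt_five E g)⟩
  obtain ⟨K, hK⟩ : ∃ K, K = ψ.range := ⟨_, rfl⟩
  rw [← hK] at hι hg
  have hG : Nat.card G = 4060 * 35942400 := by
    have h := Nat.card_congr (orbitProdStabilizerEquivGroup G E.a)
    rw [Nat.card_prod, Set.eq_univ_of_forall (s := orbit G E.a) (fun x => E.trans E.a x),
      Nat.card_congr (Equiv.Set.univ _), E.card,
      show stabilizer G E.a = E.ι.range from Subgroup.ext fun u => E.range u,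
      ← Nat.card_congr (MonoidHom.ofInjective E.inj).toEquiv, card_hp] at h
    exact h.symm
  haveI : Finite G := Nat.finite_of_card_ne_zero (by rw [hG]; norm_num)
  have hB : ∀ i, E.θ i ∈ orbit K E.a := fun i => by
    obtain ⟨k, hk⟩ := trans_φ i
    exact ⟨⟨E.ι k * g, mul_mem (hι k) hg⟩, by
      show (E.ι k * g) • E.a = E.θ i
      rw [mul_smul, hga, Edge.b, E.equiv, hk]⟩
  have hfull : ∀ x, x ∈ orbit K E.a := by
    by_contra hne
    push Not at hne
    obtain ⟨x, hx⟩ := hne
    have horb : orbit K E.a = insert E.a (Set.range E.θ) := by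
      refine Set.Subset.antisymm (fun y hy => ?_) ?_
      · by_contra hy'
        simp only [Set.mem_insert_iff, not_or] at hy'
        have hxa : x ≠ E.a := fun h => hx (h ▸ mem_orbit_self _)
        have hxB : x ∉ Set.range E.θ := fun ⟨i, hi⟩ => hx (hi ▸ hB i)
        obtain ⟨k, hk⟩ := E.rest y x hy'.1 hy'.2 hxa hxB
        obtain ⟨u, hu⟩ := hy
        exact hx ⟨⟨E.ι k, hι k⟩ * u, by
          show (E.ι k * u.1) • E.a = x
          rw [mul_smul]
          exact (congrArg (E.ι k • ·) hu).trans hk⟩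
      · rintro y (rfl | ⟨i, rfl⟩)
        exacts [mem_orbit_self _, hB i]
    have h := Nat.card_congr (orbitProdStabilizerEquivGroup K E.a)
    have hnot : E.a ∉ Set.range E.θ := fun ⟨i, hi⟩ => E.a_out i hi
    rw [Nat.card_prod, horb, Nat.card_coe_set_eq, Set.ncard_insert_of_notMem hnot,
      Set.ncard_range_of_injective E.θinj, Nat.card_fin] at h
    have hst : Nat.card (stabilizer K E.a) = 35942400 := by
      rw [← card_hp]
      refine (Nat.card_eq_of_bijective (fun m => ⟨⟨E.ι m, hι m⟩, E.fix_a m⟩) ⟨fun m n e => ?_,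
        fun u => ?_⟩).symm
      · exact E.inj (congrArg (fun z : stabilizer K E.a => z.1.1) e)
      · obtain ⟨m, hm⟩ := (E.range u.1.1).1 u.2
        exact ⟨m, Subtype.ext (Subtype.ext hm)⟩
    rw [hst] at h
    have hd : (1755 + 1) * 35942400 ∣ 4060 * 35942400 := by
      rw [h, ← hG]
      exact Subgroup.card_subgroup_dvd_card K
    exact absurd (Nat.dvd_of_mul_dvd_mul_right (by norm_num) hd) (by norm_num)
  have hsurj : Function.Surjective ψ := by
    intro u
    obtain ⟨v, hv⟩ := hfull (u • E.a)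
    obtain ⟨m, hm⟩ := (E.range (v.1⁻¹ * u)).1 (by
      rw [mul_smul, inv_smul_eq_iff]; exact hv.symm)
    have : u ∈ K := by
      rw [show u = v.1 * E.ι m by rw [hm, mul_inv_cancel_left]]
      exact mul_mem v.2 (hι m)
    rwa [hK] at this
  obtain ⟨hcardGp, ⟨e⟩⟩ := gp_ru
  exact ⟨(MulEquiv.ofBijective ψ ((Nat.bijective_iff_surjective_and_card _).2
    ⟨hsurj, by rw [hcardGp, hG]⟩)).symm.trans e⟩

end CfsgLib.RuUniq
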