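import Cfsg.Agent.Lib.RuUniq.Defs
import Cfsg.Agent.Lib.RuUniq.ForestData
import Cfsg.Agent.Lib.RuUniq.ElemData

/-!
# Forests on the 1755 points and words for the elements
-/

set_option autoImplicit false

namespace CfsgLib.RuUniq

open CfsgLib.PresCert

/-- An entry of packed data. -/
noncomputable def pk (v w m i : ℕ) : ℕ := Nat.land (Nat.shiftRight v (w * i)) m

/-- The orbit number of a point. -/
noncomputable def labOf (i : ℕ) : ℕ := pk labN 3 7 i

/-- The orbits of the subgroup of the first four letters. -/
noncomputable def orbForest : Fast.Forest where
  words := [[0], [2]]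
  lab := labOf
  depth := pk depN 6 63
  parent := pk parN 11 2047
  via := pk viaN 1 1
  roots := roots

/-- The spanning tree of all points. -/
noncomputable def allForest : Fast.Forest where
  words := [[0], [2], [4]]
  lab := fun _ => 0
  depth := pk tdepN 6 63
  parent := pk tparN 11 2047
  via := pk tviaN 2 3
  roots := [0]

/-- A transversal word. -/
def twWord (j : ℕ) : List ℕ := (twBlocks.getD (j / 64) []).getD (j % 64) []

/-- The number of a point of the largest orbit. -/
noncomputable def idxOf (q : ℕ) : ℕ := pk idxN 11 2047 q

/-- A word of the stabiliser of two base points. -/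
def swWord (i : ℕ) : List ℕ := swList.getD i []

/-- The word of an element of the stabiliser of two points. -/
def elWord (i j : ℕ) : List ℕ := swWord i ++ twWord j

/-- The transversal words lead to every point of the largest orbit. -/
noncomputable def twOk : Bool :=
  (List.range 1755).all fun q =>
    !(Nat.beq (labOf q) 4) || (Nat.blt (idxOf q) 1024 && lettersLt 4 (twWord (idxOf q)) &&
      Nat.beq (tab.walk 7 (twWord (idxOf q))) q && Nat.beq (tab.walk 0 (twWord (idxOf q))) 0)

/-- The words of the stabiliser of the base points. -/
noncomputable def swOk (pts : List ℕ) : Bool :=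
  (List.range 20).all fun i =>
    lettersLt 4 (swWord i) && Nat.beq (tab.walk 0 (swWord i)) 0 &&
      Nat.beq (tab.walk 7 (swWord i)) 7 && Nat.beq (tab.walk 1 (swWord i)) (pts.getD i 0)

/-- The number of points with a given orbit number. -/
noncomputable def labCount (k : ℕ) : ℕ :=
  ((List.range 1755).filter fun q => Nat.beq (labOf q) k).length

end CfsgLib.RuUniq
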