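import Cfsg.Agent.Lib.RuUniq.Defs
import Mathlib.GroupTheory.PresentedGroup

/-!
# The presented point stabiliser and the presented group
-/

set_option autoImplicit false

namespace CfsgLib.RuUniq

open CfsgLib.PresCert

/-- The letters of the stabiliser in the free group. -/
def freeH : ℕ → FreeGroup (Fin 3)
  | 0 => FreeGroup.of 0
  | 1 => (FreeGroup.of 0)⁻¹
  | 2 => FreeGroup.of 1
  | 3 => (FreeGroup.of 1)⁻¹
  | _ => FreeGroup.of 2

/-- The letters of the group in the free group. -/
def freeG : ℕ → FreeGroup (Fin 4)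
  | 0 => FreeGroup.of 0
  | 1 => (FreeGroup.of 0)⁻¹
  | 2 => FreeGroup.of 1
  | 3 => (FreeGroup.of 1)⁻¹
  | 4 => FreeGroup.of 2
  | _ => FreeGroup.of 3

/-- The relators of the stabiliser in the free group. -/
def relSetH : Set (FreeGroup (Fin 3)) := {r | ∃ w ∈ relsH, act freeH w = r}

/-- The relators of the group in the free group. -/
def relSetG : Set (FreeGroup (Fin 4)) := {r | ∃ w ∈ relsG, act freeG w = r}

/-- The presented stabiliser. -/
abbrev Hp : Type := PresentedGroup relSetH

/-- The presented group. -/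
abbrev Gp : Type := PresentedGroup relSetG

/-- The letters of the presented stabiliser. -/
def genH (g : ℕ) : Hp := PresentedGroup.mk relSetH (freeH g)

/-- The letters of the presented group. -/
def genG (g : ℕ) : Gp := PresentedGroup.mk relSetG (freeG g)

theorem rels_lt : relsH.all (lettersLt 5) = true ∧ relsG.all (lettersLt 6) = true ∧
    relsB.all (lettersLt 6) = true ∧ relsA.all (lettersLt 6) = true := by
  decide +kernel

theorem relsH_lt {w : List ℕ} (hw : w ∈ relsH) : ∀ g ∈ w, g < 5 :=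
  lettersLt_spec (List.all_eq_true.1 rels_lt.1 w hw)

theorem relsG_lt {w : List ℕ} (hw : w ∈ relsG) : ∀ g ∈ w, g < 6 :=
  lettersLt_spec (List.all_eq_true.1 rels_lt.2.1 w hw)

theorem relsH_act {w : List ℕ} (hw : w ∈ relsH) : act genH w = 1 := by
  rw [show genH = fun a => PresentedGroup.mk relSetH (freeH a) from rfl, ← map_act]
  exact PresentedGroup.one_of_mem ⟨w, hw, rfl⟩

theorem relsG_act {w : List ℕ} (hw : w ∈ relsG) : act genG w = 1 := by
  rw [show genG = fun a => PresentedGroup.mk relSetG (freeG a) from rfl, ← map_act]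
  exact PresentedGroup.one_of_mem ⟨w, hw, rfl⟩

theorem four_mem : ([4, 4] : List ℕ) ∈ relsH ∧ ([4, 4] : List ℕ) ∈ relsG ∧
    ([5, 5] : List ℕ) ∈ relsG := by decide +kernel

theorem genH_inv : ∀ g, g < 5 → genH g * genH (iv g) = 1 := by
  intro g hg
  interval_cases g
  iterate 4 simp [genH, freeH, iv]
  have h := relsH_act four_mem.1
  rwa [act_cons, act_one_letter] at h

theorem genG_inv : ∀ g, g < 6 → genG g * genG (iv g) = 1 := by
  intro g hg
  interval_cases g
  iterate 4 simp [genG, freeG, iv]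
  · have h := relsG_act four_mem.2.1
    rwa [act_cons, act_one_letter] at h
  · have h := relsG_act four_mem.2.2
    rwa [act_cons, act_one_letter] at h

variable {M : Type*} [Group M]

theorem lift_freeH (f : ℕ → M) (hinv : ∀ g, g < 4 → f g * f (iv g) = 1) :
    ∀ g, g < 5 → FreeGroup.lift ![f 0, f 2, f 4] (freeH g) = f g := by
  intro g hg
  interval_cases g
  · simp [freeH]
  · simpa [freeH, iv] using inv_eq_of_mul_eq_one_right (hinv 0 (by norm_num))
  · simp [freeH]
  · simpa [freeH, iv] using inv_eq_of_mul_eq_one_right (hinv 2 (by norm_num))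
  · simp [freeH]

theorem lift_freeG (f : ℕ → M) (hinv : ∀ g, g < 4 → f g * f (iv g) = 1) :
    ∀ g, g < 6 → FreeGroup.lift ![f 0, f 2, f 4, f 5] (freeG g) = f g := by
  intro g hg
  interval_cases g
  · simp [freeG]
  · simpa [freeG, iv] using inv_eq_of_mul_eq_one_right (hinv 0 (by norm_num))
  · simp [freeG]
  · simpa [freeG, iv] using inv_eq_of_mul_eq_one_right (hinv 2 (by norm_num))
  · simp [freeG]
  · simp [freeG]

theorem exists_homH (f : ℕ → M) (hinv : ∀ g, g < 4 → f g * f (iv g) = 1)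
    (hrel : ∀ w ∈ relsH, act f w = 1) : ∃ ψ : Hp →* M, ∀ g, g < 5 → ψ (genH g) = f g := by
  have key : ∀ r ∈ relSetH, FreeGroup.lift ![f 0, f 2, f 4] r = 1 := by
    rintro _ ⟨w, hw, rfl⟩
    rw [map_act, act_congr' fun a ha => lift_freeH f hinv a (relsH_lt hw a ha)]
    exact hrel w hw
  refine ⟨PresentedGroup.toGroup key, fun g hg => ?_⟩
  rw [← lift_freeH f hinv g hg]
  exact DFunLike.congr_fun (FreeGroup.ext_hom ((PresentedGroup.toGroup key).comp
    (PresentedGroup.mk relSetH)) (FreeGroup.lift ![f 0, f 2, f 4]) fun a => by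
      rw [FreeGroup.lift_apply_of]; exact PresentedGroup.toGroup.of key) (freeH g)

theorem exists_homG (f : ℕ → M) (hinv : ∀ g, g < 4 → f g * f (iv g) = 1)
    (hrel : ∀ w ∈ relsG, act f w = 1) : ∃ ψ : Gp →* M, ∀ g, g < 6 → ψ (genG g) = f g := by
  have key : ∀ r ∈ relSetG, FreeGroup.lift ![f 0, f 2, f 4, f 5] r = 1 := by
    rintro _ ⟨w, hw, rfl⟩
    rw [map_act, act_congr' fun a ha => lift_freeG f hinv a (relsG_lt hw a ha)]
    exact hrel w hw
  refine ⟨PresentedGroup.toGroup key, fun g hg => ?_⟩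
  rw [← lift_freeG f hinv g hg]
  exact DFunLike.congr_fun (FreeGroup.ext_hom ((PresentedGroup.toGroup key).comp
    (PresentedGroup.mk relSetG)) (FreeGroup.lift ![f 0, f 2, f 4, f 5]) fun a => by
      rw [FreeGroup.lift_apply_of]; exact PresentedGroup.toGroup.of key) (freeG g)

theorem genH_top : Subgroup.closure {m | ∃ g < 5, genH g = m} = ⊤ := by
  rw [eq_top_iff, ← PresentedGroup.closure_range_of, Subgroup.closure_le]
  rintro _ ⟨a, rfl⟩
  fin_cases a
  exacts [Subgroup.subset_closure ⟨0, by norm_num, rfl⟩, Subgroup.subset_closure ⟨2, by norm_num, rfl⟩,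
    Subgroup.subset_closure ⟨4, by norm_num, rfl⟩]

theorem genG_top : Subgroup.closure {m | ∃ g < 6, genG g = m} = ⊤ := by
  rw [eq_top_iff, ← PresentedGroup.closure_range_of, Subgroup.closure_le]
  rintro _ ⟨a, rfl⟩
  fin_cases a
  exacts [Subgroup.subset_closure ⟨0, by norm_num, rfl⟩, Subgroup.subset_closure ⟨2, by norm_num, rfl⟩,
    Subgroup.subset_closure ⟨4, by norm_num, rfl⟩, Subgroup.subset_closure ⟨5, by norm_num, rfl⟩]

/-- The words of the letters. -/
theorem genGrp_letters {n : ℕ} (gen : ℕ → M)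
    (h : Subgroup.closure {m | ∃ g < n, gen g = m} = ⊤) :
    genGrp ((List.range n).map fun g => [g]) gen = ⊤ := by
  rw [eq_top_iff, ← h, Subgroup.closure_le]
  rintro _ ⟨g, hg, rfl⟩
  exact Subgroup.subset_closure ⟨[g], List.mem_map.2 ⟨g, List.mem_range.2 hg, rfl⟩, act_one_letter g⟩

end CfsgLib.RuUniq
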