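import Cfsg.Agent.Lib.RuUniq.Edge
import Cfsg.Agent.Lib.RuUniq.Lines
import Mathlib.GroupTheory.Sylow

/-!
# The subgroups of the order of the point stabiliser are its conjugates
-/

set_option autoImplicit false
set_option maxRecDepth 100000

namespace CfsgLib.RuUniq

open CfsgLib.PresCert

theorem hp_two : Nat.card Hp = 2 ^ 12 * 8775 := card_hp.trans (by norm_num)

theorem hp_two_part : (Nat.card Hp).factorization 2 = 12 := by
  haveI : Fact (Nat.Prime 2) := ⟨Nat.prime_two⟩
  rw [hp_two, Nat.factorization_mul (by norm_num) (by norm_num), Finsupp.add_apply,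
    Nat.factorization_pow, Finsupp.smul_apply, Nat.Prime.factorization_self Nat.prime_two,
    Nat.factorization_eq_zero_of_not_dvd (by norm_num : ¬ 2 ∣ 8775)]
  rfl

theorem fin_orbit_bound (K : Subgroup Hp) (hK : K ≤ subP) (i : Fin 1755) (hl : 2 ≤ labOf i.val)
    (c : ℕ) (D : Finset (Fin 1755)) (hD : ∀ m ∈ K, φ m i ∈ D) (hc : D.card ≤ c) :
    Nat.card K ≤ c * 256 := by
  classical
  letI : MulAction Hp (Fin 1755) := MulAction.compHom _ φ
  let O : Finset (Fin 1755) := Finset.univ.filter fun j => j ∈ MulAction.orbit subP i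
  have hOinv : ∀ m ∈ subP, ∀ j ∈ O, φ m j ∈ O := fun m hm j hj => by
    simp only [O, Finset.mem_filter, Finset.mem_univ, true_and] at hj ⊢
    obtain ⟨n, rfl⟩ := hj
    exact ⟨⟨m, hm⟩ * n, mul_smul (⟨m, hm⟩ : subP) n i⟩
  obtain ⟨e, he, hcard⟩ := invariant_union O hOinv
  have hi : e (labOf i.val) = true := (he i).1 (by
    simp only [O, Finset.mem_filter, Finset.mem_univ, true_and]
    exact MulAction.mem_orbit_self i)
  have hlab : labOf i.val < 5 := by
    have h1 := (orbForest_ok.spec i.isLt).2.1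
    have h2 : orbForest.roots.length = 5 := rfl
    change labOf i.val < orbForest.roots.length at h1
    omega
  have h80 : 80 ≤ O.card := by
    rw [hcard]
    obtain h | h | h : labOf i.val = 2 ∨ labOf i.val = 3 ∨ labOf i.val = 4 := by omega
    all_goals rw [h] at hi; rw [hi]; simp only [if_true]; omega
  have h1 := Nat.card_congr (MulAction.orbitProdStabilizerEquivGroup subP i)
  rw [Nat.card_prod, card_subP] at h1
  have hOc : Nat.card (MulAction.orbit subP i) = O.card := by
    rw [Nat.card_eq_fintype_card, ← Set.toFinset_card]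
    congr 1
    ext j
    simp [O]
  rw [hOc] at h1
  have hst : Nat.card (MulAction.stabilizer subP i) ≤ 256 := by
    by_contra hcon
    have h257 : 80 * 257 ≤ O.card * Nat.card (MulAction.stabilizer subP i) :=
      Nat.mul_le_mul h80 (Nat.lt_of_not_le hcon)
    omega
  have h2 := Nat.card_congr (MulAction.orbitProdStabilizerEquivGroup K i)
  rw [Nat.card_prod] at h2
  have hKo : Nat.card (MulAction.orbit K i) ≤ c := by
    refine le_trans ?_ hc
    rw [← Nat.card_eq_finsetCard D]
    refine Nat.card_le_card_of_injective (fun j => ⟨j.1, ?_⟩)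
      (fun a b h => Subtype.ext (congrArg (fun z : D => z.1) h))
    obtain ⟨n, hn⟩ := j.2
    rw [← hn]
    exact hD n.1 n.2
  have hKs : Nat.card (MulAction.stabilizer K i) ≤ 256 := by
    refine le_trans ?_ hst
    refine Nat.card_le_card_of_injective (fun n => ⟨⟨n.1.1, hK n.1.2⟩, ?_⟩) fun a b h => ?_
    · exact n.2
    · exact Subtype.ext (Subtype.ext (congrArg (fun z : MulAction.stabilizer subP i => z.1.1) h))
  rw [← h2]
  exact Nat.mul_le_mul hKo hKs

/-- A subgroup of the order of the point stabiliser is conjugate to it. -/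
theorem conj_subP (X : Subgroup Hp) (hX : Nat.card X = 20480) :
    ∃ m : Hp, ∀ x : Hp, x ∈ subP ↔ m * x * m⁻¹ ∈ X := by
  classical
  haveI : Fact (Nat.Prime 2) := ⟨Nat.prime_two⟩
  have hdiv : 2 ^ 12 ∣ 20480 := by norm_num
  obtain ⟨S1, hS1⟩ := Sylow.exists_subgroup_card_pow_prime 2
    (show 2 ^ 12 ∣ Nat.card subP by rw [card_subP]; exact hdiv)
  obtain ⟨S2, hS2⟩ := Sylow.exists_subgroup_card_pow_prime 2
    (show 2 ^ 12 ∣ Nat.card X by rw [hX]; exact hdiv)
  have c1 : Nat.card (S1.map subP.subtype) = 2 ^ (Nat.card Hp).factorization 2 := by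
    rw [hp_two_part, Subgroup.card_map_of_injective subP.subtype_injective, hS1]
  have c2 : Nat.card (S2.map X.subtype) = 2 ^ (Nat.card Hp).factorization 2 := by
    rw [hp_two_part, Subgroup.card_map_of_injective X.subtype_injective, hS2]
  obtain ⟨m, hm⟩ := MulAction.exists_smul_eq Hp (Sylow.ofCard _ c1) (Sylow.ofCard _ c2)
  obtain ⟨X', hX'⟩ : ∃ X' : Subgroup Hp, X' = X.comap (MulAut.conj m).toMonoidHom := ⟨_, rfl⟩
  have hmem : ∀ x, x ∈ X' ↔ m * x * m⁻¹ ∈ X := fun x => by
    rw [hX']; rfl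
  have hX'c : Nat.card X' = 20480 := by
    rw [← hX]
    refine Nat.card_congr
      { toFun := fun x => ⟨m * x.1 * m⁻¹, (hmem _).1 x.2⟩
        invFun := fun x => ⟨m⁻¹ * x.1 * m, (hmem _).2 (by group; exact x.2)⟩
        left_inv := fun x => Subtype.ext (by group)
        right_inv := fun x => Subtype.ext (by group) }
  -- a Sylow subgroup of the stabiliser lies in both
  obtain ⟨K, hK⟩ : ∃ K : Subgroup Hp, K = X' ⊓ subP := ⟨_, rfl⟩
  have hSK : S1.map subP.subtype ≤ K := by
    rw [hK]
    refine le_inf (fun x hx => (hmem x).2 ?_) (Subgroup.map_subtype_le _)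
    have : m * x * m⁻¹ ∈ ((m • Sylow.ofCard _ c1 : Sylow 2 Hp) : Subgroup Hp) := by
      rw [Sylow.coe_subgroup_smul]
      exact ⟨x, hx, rfl⟩
    rw [hm] at this
    exact Subgroup.map_subtype_le _ this
  have hKdvd : 2 ^ 12 ∣ Nat.card K := by
    have := Subgroup.card_dvd_of_le hSK
    rwa [c1, hp_two_part] at this
  letI : MulAction Hp (Fin 1755) := MulAction.compHom _ φ
  let D : Finset (Fin 1755) := Finset.univ.filter fun j => j ∈ MulAction.orbit X' (pt 0)
  have hD : ∀ j, j ∈ D ↔ ∃ x ∈ X', φ x (pt 0) = j := fun j => by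
    simp only [D, Finset.mem_filter, Finset.mem_univ, true_and]
    exact ⟨fun ⟨x, hx⟩ => ⟨x.1, x.2, hx⟩, fun ⟨x, hx, h⟩ => ⟨⟨x, hx⟩, h⟩⟩
  have hDK : D.card * Nat.card K = 20480 := by
    have h1 := Nat.card_congr (MulAction.orbitProdStabilizerEquivGroup X' (pt 0))
    rw [Nat.card_prod, hX'c] at h1
    rw [← h1]
    congr 1
    · rw [Nat.card_eq_fintype_card, ← Set.toFinset_card]
      congr 1
      ext j
      simp [D]
    · refine Nat.card_congr
        { toFun := fun x => ⟨⟨x.1, (show x.1 ∈ X' ∧ x.1 ∈ subP from hK ▸ x.2).1⟩,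
            mem_subP.1 (show x.1 ∈ X' ∧ x.1 ∈ subP from hK ▸ x.2).2⟩
          invFun := fun x => ⟨x.1.1, by rw [hK]; exact ⟨x.1.2, mem_subP.2 x.2⟩⟩
          left_inv := fun x => rfl
          right_inv := fun x => rfl }
  obtain ⟨k, hk⟩ := hKdvd
  have hD0 : pt 0 ∈ D := (hD _).2 ⟨1, one_mem _, by simp⟩
  have hDpos : 0 < D.card := Finset.card_pos.2 ⟨_, hD0⟩
  -- the other points of the orbit are collinear with the first
  have hDK' : D.card * k = 5 := by
    rw [hk] at hDK
    have : 4096 * (D.card * k) = 4096 * 5 := by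
      rw [show (4096 : ℕ) = 2 ^ 12 by norm_num, ← mul_assoc, mul_comm (2 ^ 12) D.card, mul_assoc]
      omega
    omega
  have hD5 : D.card ∣ 5 := ⟨k, hDK'.symm⟩
  have hlab : ∀ j ∈ D, j ≠ pt 0 → labOf j.val = 1 := by
    intro j hj hj0
    by_contra hne
    have hl : 2 ≤ labOf j.val := by
      by_contra hlt
      have h0 : labOf j.val = 0 := by omega
      obtain ⟨n, hn, r, hr, hnj⟩ := root_reach j
      apply hj0
      rw [← hnj, show r = pt 0 from Fin.ext (hr.trans (by rw [h0]; rfl))]
      exact subP_fix hn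
    have hcard := fin_orbit_bound K (hK ▸ inf_le_right) j hl (D.erase (pt 0)).card (D.erase (pt 0))
      (fun x hx => by
        rw [hK] at hx
        refine Finset.mem_erase.2 ⟨fun h => hj0 ?_, (hD _).2 ?_⟩
        · exact (φ x).injective (h.trans (subP_fix hx.2).symm)
        · obtain ⟨y, hy, rfl⟩ := (hD j).1 hj
          exact ⟨x * y, mul_mem hx.1 hy, by rw [map_mul, Equiv.Perm.mul_apply]⟩)
      le_rfl
    rw [Finset.card_erase_of_mem hD0, hk] at hcard
    have := Nat.le_of_dvd (by norm_num) hD5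
    have : 0 < k := Nat.pos_of_ne_zero fun h => by rw [h] at hDK'; omega
    omega
  have hD1 : D.card = 1 := by
    rcases (Nat.dvd_prime (by norm_num)).1 hD5 with h | h
    · exact h
    exfalso
    obtain ⟨j, hj, hj0⟩ := Finset.exists_mem_ne (by omega : 1 < D.card) (pt 0)
    obtain ⟨u, hu5, hu, hjoin⟩ := line_spec j.isLt (hlab j hj hj0)
    obtain ⟨y, hy, hyj⟩ := (hD j).1 hj
    have huj : φ (act genH u) (pt 0) = j := Fin.ext ((walk_apply hu5 _).trans hu)
    have hn : (act genH u)⁻¹ * y ∈ subP := by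
      rw [mem_subP, map_mul, Equiv.Perm.mul_apply, hyj, map_inv, Equiv.Perm.inv_def,
        Equiv.symm_apply_eq, huj]
    have hsub : ((D.erase (pt 0)).erase j).image Fin.val ⊆ (joined u).toFinset := by
      intro q hq
      obtain ⟨q', hq', rfl⟩ := Finset.mem_image.1 hq
      simp only [Finset.mem_erase] at hq'
      obtain ⟨hqj, hq0, hqD⟩ := hq'
      obtain ⟨z, hz, hzq⟩ := (hD q').1 hqD
      simp only [joined, List.mem_toFinset, List.mem_filter, List.mem_range, Bool.and_eq_true,
        Nat.beq_eq]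
      refine ⟨q'.isLt, hlab q' hqD hq0, ?_⟩
      have hw : φ (y⁻¹ * z) (pt 0) ∈ D := (hD _).2 ⟨_, mul_mem (inv_mem hy) hz, rfl⟩
      have hne : φ (y⁻¹ * z) (pt 0) ≠ pt 0 := fun h => hqj (by
        rw [map_mul, Equiv.Perm.mul_apply, hzq, map_inv, Equiv.Perm.inv_def,
          Equiv.symm_apply_eq, hyj] at h
        exact h)
      have hv := hlab _ hw hne
      have e : φ ((act genH u)⁻¹) q' = φ ((act genH u)⁻¹ * y) (φ (y⁻¹ * z) (pt 0)) := by
        rw [← Equiv.Perm.mul_apply, ← map_mul, mul_assoc, mul_inv_cancel_left, map_mul,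
          Equiv.Perm.mul_apply, hzq]
      have hinv : labOf (φ ((act genH u)⁻¹ * y) (φ (y⁻¹ * z) (pt 0))).val =
          labOf (φ (y⁻¹ * z) (pt 0)).val := orbForest_ok.invariant realised hn _
      rw [← e, hv, ← act_inv (fun g hg => genH_inv g hg) hu5] at hinv
      rw [← walk_apply (wInv_lt (fun _ h => iv_lt5 h) hu5)]
      exact hinv
    have h1 := Finset.card_le_card hsub
    rw [Finset.card_image_of_injective _ Fin.val_injective, Finset.card_erase_of_mem
      (Finset.mem_erase.2 ⟨hj0, hj⟩), Finset.card_erase_of_mem hD0] at h1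
    have := List.toFinset_card_le (joined u)
    omega
  refine ⟨m, fun x => ?_⟩
  rw [← hmem]
  have hKX : K = X' := by
    refine Subgroup.eq_of_le_of_card_ge (hK ▸ inf_le_left) ?_
    rw [hD1, one_mul] at hDK
    rw [hX'c, hDK]
  have hKP : K = subP := by
    refine Subgroup.eq_of_le_of_card_ge (hK ▸ inf_le_right) ?_
    rw [card_subP, hKX, hX'c]
  rw [← hKP, hKX]

end CfsgLib.RuUniq
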